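import Cfsg.Agent.Classification.OrderRange.Block

/-!
# One option for the number of Sylow subgroups of prime order
-/

set_option autoImplicit false
set_option linter.style.haveILetI false

namespace CfsgLib.Classification.OrderMid

open Cfsg CfsgLib.Small CfsgLib.Classification.SmallOrders CfsgLib.Classification.OrderRange

variable {G : Type*} [Group G] [Finite G] [IsSimpleGroup G] {p : ℕ} [Fact p.Prime]

/-- If every index is killed for the number of Sylow `p`-subgroups, there is no such group. -/
theorem false_of_optionKilled (hna : ¬ IsMulCommutative G) (hp3 : 3 ≤ p) (P : Sylow p G)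
    (hP : Nat.card (P : Subgroup G) = p) {N : ℕ} (hN : Nat.card G = N) (hN80 : N < 6400)
    (h' : optionKilled N p (Nat.card (Sylow p G)) (fun _ => false) (fun _ => false) false = true) :
    False := by
  classical
  haveI := Fintype.ofFinite G
  have hpG : p ∣ Nat.card G := hP ▸ Subgroup.card_subgroup_dvd_card (P : Subgroup G)
  set n := Nat.card (Sylow p G) with hn
  obtain ⟨r, c, hr, hr1, hNc, hCc⟩ := exists_relIndex hna P hP
  have hmul := card_sylow_mul_card_normalizer P
  rw [hNc, hN, ← hn] at hmul
  have hr0 : r ≠ 0 := fun e => by subst e; have := zero_dvd_iff.1 hr; omega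
  have hrp : r ≤ p - 1 := Nat.le_of_dvd (by omega) hr
  have hpos : 0 < n * (r * p) := Nat.mul_pos Nat.card_pos (Nat.mul_pos (by omega) (by omega))
  have hN1 : N = n * (r * p) * c := by rw [← hmul]; ring
  have hdiv : N / (n * (r * p)) = c := by rw [hN1]; exact Nat.mul_div_cancel_left _ hpos
  have hrel : (Subgroup.centralizer ((P : Subgroup G) : Set G)).relIndex
      (Subgroup.normalizer ((P : Subgroup G) : Set G)) = r := by
    have h1 := card_centralizer_mul_relIndex (P : Subgroup G)
    rw [hCc, hNc, mul_comm r] at h1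
    have hc0 : 0 < p * c := hCc ▸ Nat.card_pos
    exact Nat.eq_of_mul_eq_mul_left hc0 h1
  rw [optionKilled, List.all_eq_true] at h'
  have h'r := h' r (List.mem_range.2 (by omega))
  rw [hdiv] at h'r
  simp only [Bool.or_eq_true, Bool.and_eq_true, decide_eq_true_eq, Bool.not_eq_true',
    beq_eq_false_iff_ne, beq_iff_eq] at h'r
  rcases h'r with (((((h' | h') | h') | h') | h') | h') | h'
  · omega
  · exact absurd (Nat.mod_eq_zero_of_dvd hr) h'
  · exact absurd (by rw [hN1]; exact Nat.mul_mod_right _ _) h'
  · exfalso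
    refine two_not_dvd_card_centralizer hna hpG P hP (by omega) h'.1 ?_
    rw [hCc]
    exact (Nat.dvd_of_mod_eq_zero h'.2).mul_left p
  · exfalso
    have := congrArg (fun H : Subgroup G => Nat.card H) (centralizer_eq_of_card_succ hna hpG P hP h'.1)
    simp only [hCc, hP] at this
    exact h'.2 ((Nat.mul_eq_left (by omega)).1 this)
  · exfalso
    obtain ⟨⟨⟨hc1, hsmall⟩, hodd⟩, heven⟩ := h'
    haveI := isCyclic_of_prime_card hP
    have S : LargePrime.Core P := ⟨SmallOrders.commutator_eq_top hna, hP,
      (Subgroup.eq_of_le_of_card_ge (Subgroup.le_centralizer (P : Subgroup G))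
        (by rw [hP, hCc, hc1, mul_one])).symm⟩
    rcases LargePrime.Setup.classification (P := P) ⟨S, hsmall⟩ with
      ⟨F, i1, i2, hF, -, ⟨φ⟩⟩ | ⟨i, F, i1, i2, hF, hpi, -, ⟨φ⟩⟩
    · have := Linear.card_PSL_two_odd (F := F) (by
        rw [hF]; exact (Fact.out : p.Prime).odd_of_ne_two (by omega))
      rw [← Nat.card_congr φ.toEquiv, hN, hF] at this
      exact hodd this
    · have hev : Even (Fintype.card F) := by
        rw [hF]
        exact (Nat.even_pow.2 ⟨even_two, fun h => by rw [h, pow_zero] at hpi; omega⟩)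
      have := Linear.card_PSL_two_even (F := F) hev
      rw [← Nat.card_congr φ.toEquiv, hN, hF] at this
      exact heven (by rw [hpi, Nat.add_sub_cancel]; exact this)
  · obtain ⟨L, d, h1, h2, h3, h4, h5, h6, h7, h8, h9, h10, ⟨χd, h11⟩, h12⟩ :=
      block_degrees hna hp3 P hP hN hN80 hrel (by omega) hrp hCc
    rw [show r - 1 = L.length by omega] at h'
    rcases killed_spec L _ _ _ h' h2 d h3 h4 h5 h6 h7 h8 h9 with ⟨x, hx, hpx⟩ | hpd | ⟨hok, hA, hAd⟩
    · exact Bool.false_ne_true hpx
    · exact Bool.false_ne_true hpd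
    · exact Bool.false_ne_true hAd

end CfsgLib.Classification.OrderMid
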