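import Cfsg.Agent.Classification.OrderMid.InvolutionOne
import Cfsg.Agent.Classification.OrderMid.Option

/-!
# No simple group of order 1512

The normaliser of a Sylow 7-subgroup has order 42 and contains an element of order 6. The principal
7-block has degrees `1, 27, 8, 9, 9` or `1, 27, 6, 8, 8, 8, 8`, and neither set satisfies the
involution equation with a centraliser of order divisible by 6.
-/

set_option autoImplicit false
set_option linter.style.haveILetI false

namespace CfsgLib.Classification.OrderMid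

open Cfsg CfsgLib.Small CfsgLib.Classification.SmallOrders CfsgLib.Classification.OrderRange

namespace Case1512

/-- The possible pairs of coefficient and degree. -/
def types : List (ℤ × ℕ) := [(-2, 12), (-1, 6), (-1, 27), (1, 8), (1, 36), (2, 2), (2, 9)]

set_option synthInstance.maxSize 1024 in
theorem types_spec : ∀ n : ℕ, n < 39 → 1 < n → n ∣ 1512 → ∀ a ∈ [(-2 : ℤ), -1, 1, 2],
    ((n : ℤ) - a) % 7 = 0 → (a, n) ∈ types := by
  decide +kernel

theorem mem_types {a : ℤ} {n : ℕ} (ha0 : a ≠ 0) (ha : a * a ≤ 6) (h1 : 1 < n) (hn : n ∣ 1512)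
    (hp : (7 : ℤ) ∣ (n : ℤ) - a) (hsq : n * n ≤ 1511) : (a, n) ∈ types := by
  have hn39 : n < 39 := by nlinarith
  have hb : -2 ≤ a ∧ a ≤ 2 := by constructor <;> nlinarith
  refine types_spec n hn39 h1 hn a ?_ (Int.emod_eq_zero_of_dvd hp)
  simp only [List.mem_cons, List.not_mem_nil, or_false]
  omega

/-- The values at the involution attached to one type. -/
def vals (L : List (ℤ × ℕ × ℤ)) (a : ℤ) (n : ℕ) : List ℤ :=
  (L.filter fun r => r.1 == a && r.2.1 == n).map fun r => r.2.2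

theorem sum_split (F : ℤ → ℕ → ℤ → ℤ) : ∀ (L : List (ℤ × ℕ × ℤ)),
    (∀ r ∈ L, (r.1, r.2.1) ∈ types) →
    (L.map fun r => F r.1 r.2.1 r.2.2).sum =
      ((vals L (-2) 12).map (F (-2) 12)).sum + ((vals L (-1) 6).map (F (-1) 6)).sum
      + ((vals L (-1) 27).map (F (-1) 27)).sum + ((vals L 1 8).map (F 1 8)).sum
      + ((vals L 1 36).map (F 1 36)).sum + ((vals L 2 2).map (F 2 2)).sum
      + ((vals L 2 9).map (F 2 9)).sum
  | [], _ => by simp [vals]
  | r :: L, h => by
    obtain ⟨a, n, v⟩ := r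
    have ih := sum_split F L fun r hr => h r (List.mem_cons_of_mem _ hr)
    have hr := h (a, n, v) List.mem_cons_self
    simp only [types, List.mem_cons, List.not_mem_nil, or_false, Prod.mk.injEq] at hr
    rw [List.map_cons, List.sum_cons, ih]
    rcases hr with ⟨rfl, rfl⟩ | ⟨rfl, rfl⟩ | ⟨rfl, rfl⟩ | ⟨rfl, rfl⟩ | ⟨rfl, rfl⟩ | ⟨rfl, rfl⟩ |
      ⟨rfl, rfl⟩ <;> simp [vals] <;> ring

theorem mem_vals {L : List (ℤ × ℕ × ℤ)} {a : ℤ} {n : ℕ} {v : ℤ} (h : v ∈ vals L a n) :
    (a, n, v) ∈ L := by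
  obtain ⟨r, hr, rfl⟩ := List.mem_map.1 h
  obtain ⟨h1, h2⟩ := List.mem_filter.1 hr
  rw [Bool.and_eq_true, beq_iff_eq, beq_iff_eq] at h2
  rw [← h2.1, ← h2.2]
  exact h1

theorem sum_map_const (c : ℤ) : ∀ l : List ℤ, (l.map fun _ => c).sum = (l.length : ℤ) * c
  | [] => by simp
  | x :: l => by
    rw [List.map_cons, List.sum_cons, sum_map_const c l, List.length_cons]
    push_cast
    ring

set_option synthInstance.maxSize 4096 in
theorem counts : ∀ j : Fin 2, ∀ s : Fin 7, ∀ m : Fin 7, ∀ e : Fin 7, ∀ k : Fin 7, ∀ q : Fin 2,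
    ∀ n : Fin 2, 4 * (j : ℕ) + s + m + e + k + 4 * q + 4 * n = 6 →
    8 * (e : ℕ) + 36 * k + 4 * q + 18 * n + 1 = 24 * j + 6 * s + 27 * m →
    144 * (j : ℕ) + 36 * s + 729 * m + 64 * e + 1296 * k + 4 * q + 81 * n ≤ 1511 →
    ((j : ℕ) = 0 ∧ (s : ℕ) = 0 ∧ (m : ℕ) = 1 ∧ (e : ℕ) = 1 ∧ (k : ℕ) = 0 ∧ (q : ℕ) = 0 ∧ (n : ℕ) = 1) ∨
    ((j : ℕ) = 0 ∧ (s : ℕ) = 1 ∧ (m : ℕ) = 1 ∧ (e : ℕ) = 4 ∧ (k : ℕ) = 0 ∧ (q : ℕ) = 0 ∧ (n : ℕ) = 0) := by
  decide +kernel

theorem no_three : ∀ c ∈ ([6, 12, 18, 24, 36, 54, 72, 108, 216] : List ℕ), ∀ i : Fin 30, ∀ j : Fin 29,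
    ((i : ℤ) - 15) ^ 2 + (((i : ℤ) - 15) - 1 - 2 * ((j : ℤ) - 14)) ^ 2 + ((j : ℤ) - 14) ^ 2
      + 1 ≤ (c : ℤ) →
    (c : ℤ) * c ≠ 216 - 8 * ((i : ℤ) - 15) ^ 2
      + 27 * (((i : ℤ) - 15) - 1 - 2 * ((j : ℤ) - 14)) ^ 2 + 48 * ((j : ℤ) - 14) ^ 2 := by
  decide +kernel

theorem no_six : ∀ c ∈ ([6, 12, 18, 24] : List ℕ), ∀ i : Fin 6, ∀ v : Fin 9, ∀ w : Fin 9, (w : ℕ) % 2 = 1 →
    4 * (i : ℤ) + ((v : ℤ) - 4) ^ 2 + ((w : ℤ) - 4) ^ 2 + 1 ≤ (c : ℤ) →
    (((v : ℤ) - 4) + ((w : ℤ) - 4) - 1) ^ 2 ≤ 16 * (i : ℤ) →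
    (c : ℤ) * c ≠ 216 - 36 * ((v : ℤ) - 4) ^ 2 - 8 * ((w : ℤ) - 4) ^ 2 + 27 * (4 * (i : ℤ)) := by
  decide +kernel

/-- The numerical contradiction. -/
theorem false_of_values {c : ℕ} (hc : c ∈ [6, 12, 18, 24, 36, 54, 72, 108, 216])
    (L : List (ℤ × ℕ × ℤ)) (hT : ∀ r ∈ L, (r.1, r.2.1) ∈ types)
    (hpar : ∀ r ∈ L, 2 ∣ (r.2.1 : ℤ) - r.2.2)
    (hw : (L.map fun r => r.1 * r.1).sum = 6)
    (hn : (L.map fun r => r.1 * (r.2.1 : ℤ)).sum = -1)
    (hq : (L.map fun r => (r.2.1 : ℤ) * r.2.1).sum ≤ 1511)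
    (hv : (L.map fun r => r.1 * r.2.2).sum = -1)
    (hcol : (L.map fun r => r.2.2 * r.2.2).sum + 1 ≤ (c : ℤ))
    (heq : (c : ℤ) * c = 216 + (L.map fun r => r.1 * (r.2.2 * r.2.2) * (216 / (r.2.1 : ℤ))).sum) :
    False := by
  rw [sum_split (fun a _ _ => a * a) L hT] at hw
  rw [sum_split (fun a n _ => a * (n : ℤ)) L hT] at hn
  rw [sum_split (fun _ n _ => (n : ℤ) * n) L hT] at hq
  rw [sum_split (fun a _ v => a * v) L hT] at hv
  rw [sum_split (fun _ _ v => v * v) L hT] at hcol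
  rw [sum_split (fun a n v => a * (v * v) * (216 / (n : ℤ))) L hT] at heq
  simp only [sum_map_const] at hw hn hq
  push_cast at hn hq
  have key : ((vals L (-2) 12).length = 0 ∧ (vals L (-1) 6).length = 0 ∧
        (vals L (-1) 27).length = 1 ∧ (vals L 1 8).length = 1 ∧ (vals L 1 36).length = 0 ∧
        (vals L 2 2).length = 0 ∧ (vals L 2 9).length = 1) ∨
      ((vals L (-2) 12).length = 0 ∧ (vals L (-1) 6).length = 1 ∧
        (vals L (-1) 27).length = 1 ∧ (vals L 1 8).length = 4 ∧ (vals L 1 36).length = 0 ∧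
        (vals L 2 2).length = 0 ∧ (vals L 2 9).length = 0) :=
    counts ⟨_, show (vals L (-2) 12).length < 2 by omega⟩ ⟨_, show (vals L (-1) 6).length < 7 by omega⟩
      ⟨_, show (vals L (-1) 27).length < 7 by omega⟩ ⟨_, show (vals L 1 8).length < 7 by omega⟩
      ⟨_, show (vals L 1 36).length < 7 by omega⟩ ⟨_, show (vals L 2 2).length < 2 by omega⟩
      ⟨_, show (vals L 2 9).length < 2 by omega⟩ (by simp only; omega) (by simp only; omega)
      (by simp only; omega)
  rcases key with ⟨h1, h2, h3, h4, h5, h6, h7⟩ | ⟨h1, h2, h3, h4, h5, h6, h7⟩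
  · rw [List.length_eq_zero_iff] at h1 h2 h5 h6
    obtain ⟨a, ha⟩ := List.length_eq_one_iff.1 h3
    obtain ⟨b, hb⟩ := List.length_eq_one_iff.1 h4
    obtain ⟨e, he⟩ := List.length_eq_one_iff.1 h7
    rw [h1, h2, h5, h6, ha, hb, he] at hv hcol heq
    norm_num at hv hcol heq
    have hc216 : (c : ℤ) ≤ 216 := by
      simp only [List.mem_cons, List.not_mem_nil, or_false] at hc
      omega
    have ha2 : a * a ≤ 215 := by linarith [mul_self_nonneg b, mul_self_nonneg e]
    have hab : -15 ≤ a ∧ a ≤ 14 := by constructor <;> nlinarith only [ha2]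
    have he2 : e * e ≤ 215 := by linarith [mul_self_nonneg b, mul_self_nonneg a]
    have heb : -14 ≤ e ∧ e ≤ 14 := by constructor <;> nlinarith only [he2]
    obtain ⟨i, rfl⟩ : ∃ i : Fin 30, a = (i : ℤ) - 15 :=
      ⟨⟨(a + 15).toNat, by omega⟩, by simp only; omega⟩
    obtain ⟨j, rfl⟩ : ∃ j : Fin 29, e = (j : ℤ) - 14 :=
      ⟨⟨(e + 14).toNat, by omega⟩, by simp only; omega⟩
    obtain rfl : b = ((i : ℤ) - 15) - 1 - 2 * ((j : ℤ) - 14) := by linarith
    exact no_three c hc i j (by linarith) (by linarith)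

  · rw [List.length_eq_zero_iff] at h1 h5 h6 h7
    obtain ⟨v, hv6⟩ := List.length_eq_one_iff.1 h2
    obtain ⟨w, hw27⟩ := List.length_eq_one_iff.1 h3
    obtain ⟨x, y, z, u, hxs⟩ : ∃ x y z u, vals L 1 8 = [x, y, z, u] := by
      match hm : vals L 1 8, h4 with
      | [x, y, z, u], _ => exact ⟨x, y, z, u, rfl⟩
    have hev : ∀ s ∈ vals L 1 8, 2 ∣ s := fun s hs => by
      have := hpar _ (mem_vals hs)
      simp only at this
      omega
    rw [hxs] at hev
    obtain ⟨x, rfl⟩ := hev x (by simp)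
    obtain ⟨y, rfl⟩ := hev _ (List.mem_cons_of_mem _ List.mem_cons_self)
    obtain ⟨z, rfl⟩ := hev _ (List.mem_cons_of_mem _ (List.mem_cons_of_mem _ List.mem_cons_self))
    obtain ⟨u, rfl⟩ := hev u (by simp)
    rw [h1, h5, h6, h7, hv6, hw27, hxs] at hv hcol heq
    norm_num at hv hcol heq
    set Q := x * x + y * y + z * z + u * u with hQ
    have hS : (v + w - 1) ^ 2 ≤ 16 * Q := by
      have h : v + w - 1 = 2 * (x + y + z + u) := by linarith
      rw [h, hQ]
      nlinarith [sq_nonneg (x - y), sq_nonneg (x - z), sq_nonneg (x - u), sq_nonneg (y - z),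
        sq_nonneg (y - u), sq_nonneg (z - u)]
    have hQ0 : 0 ≤ Q := by
      rw [hQ]
      linarith [mul_self_nonneg x, mul_self_nonneg y, mul_self_nonneg z, mul_self_nonneg u]
    have hcol' : 4 * Q + v ^ 2 + w ^ 2 + 1 ≤ (c : ℤ) := by rw [hQ]; linarith
    have heq' : (c : ℤ) * c = 216 - 36 * v ^ 2 - 8 * w ^ 2 + 27 * (4 * Q) := by rw [hQ]; linarith
    have hc24 : (c : ℤ) ≤ 33 := by
      have h : (c : ℤ) * c ≤ 216 + 27 * ((c : ℤ) - 1) := by linarith [sq_nonneg v, sq_nonneg w]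
      nlinarith only [h]
    have hc' : c ∈ [6, 12, 18, 24] := by
      simp only [List.mem_cons, List.not_mem_nil, or_false] at hc ⊢
      omega
    have hcb : (c : ℤ) ≤ 24 := by
      simp only [List.mem_cons, List.not_mem_nil, or_false] at hc'
      omega
    have hv2 : v ^ 2 ≤ 23 := by linarith [sq_nonneg w]
    have hw2 : w ^ 2 ≤ 23 := by linarith [sq_nonneg v]
    have hvb : -4 ≤ v ∧ v ≤ 4 := by constructor <;> nlinarith only [hv2]
    have hwb : -4 ≤ w ∧ w ≤ 4 := by constructor <;> nlinarith only [hw2]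
    have hQb : Q ≤ 5 := by
      have : 4 * Q ≤ 23 := by linarith [sq_nonneg v, sq_nonneg w]
      omega
    obtain ⟨i, hi⟩ : ∃ i : Fin 6, Q = (i : ℤ) :=
      ⟨⟨Q.toNat, by omega⟩, by simp only; omega⟩
    obtain ⟨v', rfl⟩ : ∃ i : Fin 9, v = (i : ℤ) - 4 :=
      ⟨⟨(v + 4).toNat, by omega⟩, by simp only; omega⟩
    obtain ⟨w', rfl⟩ : ∃ i : Fin 9, w = (i : ℤ) - 4 :=
      ⟨⟨(w + 4).toNat, by omega⟩, by simp only; omega⟩
    have hwodd := hpar _ (mem_vals (a := -1) (n := 27) (v := (w' : ℤ) - 4) (by rw [hw27]; simp))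
    simp only at hwodd
    rw [hi] at hS hcol' heq'
    exact no_six c hc' i v' w' (by omega) hcol' hS heq'

end Case1512

variable {G : Type*} [Group G] [Finite G] [IsSimpleGroup G]

theorem false_of_card_1512 (hG : ¬ IsMulCommutative G) (hN : Nat.card G = 1512) : False := by
  classical
  haveI := Fintype.ofFinite G
  haveI : Fact (Nat.Prime 7) := ⟨by norm_num⟩
  have hN7 : Nat.card G = 7 ^ 1 * 216 := hN
  obtain ⟨P⟩ : Nonempty (Sylow 7 G) := inferInstance
  have hP : Nat.card (P : Subgroup G) = 7 := by simpa using card_sylow_eq hN7 (by norm_num) P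
  have hn7 := card_sylow_mem hG hN7 one_ne_zero (by norm_num)
  rw [show (Nat.divisors 216).filter (fun d => d % 7 = 1 ∧ d ≠ 1) = {8, 36} by decide +kernel,
    Finset.mem_insert, Finset.mem_singleton] at hn7
  rcases hn7 with h | h
  · exact false_of_optionKilled hG (by norm_num) P hP hN (by norm_num) (by rw [h]; decide +kernel)
  obtain ⟨r, c, hr, hr1, hNc, hCc⟩ := exists_relIndex hG P hP
  have hmul := card_sylow_mul_card_normalizer P
  rw [h, hN, hNc] at hmul
  have hrc : r * c = 6 := by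
    have : 252 * (r * c) = 252 * 6 := by rw [show 252 * 6 = 1512 from rfl, ← hmul]; ring
    omega
  have hrel : (Subgroup.centralizer ((P : Subgroup G) : Set G)).relIndex
      (Subgroup.normalizer ((P : Subgroup G) : Set G)) = r := by
    have h1 := card_centralizer_mul_relIndex (P : Subgroup G)
    rw [hCc, hNc] at h1
    have hc0 : 0 < 7 * c := by have := Nat.card_pos (α := ↥(Subgroup.centralizer ((P : Subgroup G) : Set G))); omega
    exact Nat.eq_of_mul_eq_mul_left hc0 (h1.trans (mul_comm r (7 * c)))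
  have hr6 : r = 6 ∧ c = 1 := by
    have hr' := mem_divisors_of_dvd hr (by norm_num)
    rw [show Nat.divisors (7 - 1) = {1, 2, 3, 6} by decide] at hr'
    simp only [Finset.mem_insert, Finset.mem_singleton] at hr'
    have hkill : ∀ e c' : ℕ, r = e → c = c' → (e = 2 ∧ c' = 3 ∨ e = 3 ∧ c' = 2) → False := by
      rintro e c' rfl rfl he
      obtain ⟨L, d, h1, h2, h3, h4, h5, h6, h7, h8, h9, -⟩ :=
        block_degrees hG (by norm_num) P hP hN (by norm_num) hrel (by omega) (by omega) hCc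
      have hk : killed 1512 7 r c (fun _ => false) (fun _ => false) L.length false 1 1511 = true := by
        rcases he with ⟨rfl, rfl⟩ | ⟨rfl, rfl⟩
        · rw [show L.length = 1 by omega]; decide +kernel
        · rw [show L.length = 2 by omega]; decide +kernel
      rcases killed_spec L _ _ _ hk h2 d h3 h4 h5 h6 h7 h8 h9 with ⟨x, -, hpx⟩ | hpd | ⟨-, -, hAd⟩
      exacts [Bool.false_ne_true hpx, Bool.false_ne_true hpd, Bool.false_ne_true hAd]
    rcases hr' with rfl | rfl | rfl | rfl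
    · omega
    · exact (hkill 2 3 rfl (by omega) (Or.inl ⟨rfl, rfl⟩)).elim
    · exact (hkill 3 2 rfl (by omega) (Or.inr ⟨rfl, rfl⟩)).elim
    · omega
  obtain ⟨rfl, rfl⟩ := hr6
  set N := Subgroup.normalizer ((P : Subgroup G) : Set G) with hNdef
  set C := Subgroup.centralizer ((P : Subgroup G) : Set G) with hCdef
  haveI : IsCyclic ↥(P : Subgroup G) := isCyclic_of_prime_card hP
  have hC : C = (P : Subgroup G) :=
    (Subgroup.eq_of_le_of_card_ge (Subgroup.le_centralizer (P : Subgroup G))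
      (by rw [hP, hCc])).symm
  -- an element of order six
  obtain ⟨t, w, ht, hw, htw, htN⟩ : ∃ t w : G, orderOf t = 2 ∧ orderOf w = 3 ∧ w * t = t * w ∧
      t ∈ N := by
    haveI : Fact (Nat.Prime 2) := ⟨Nat.prime_two⟩
    haveI : Fact (Nat.Prime 3) := ⟨Nat.prime_three⟩
    obtain ⟨a, ha⟩ := exists_prime_orderOf_dvd_card' (G := ↥N) 2 (by rw [hNc]; norm_num)
    obtain ⟨b, hb⟩ := exists_prime_orderOf_dvd_card' (G := ↥N) 3 (by rw [hNc]; norm_num)
    let φ := Subgroup.normalizerMonoidHom (P : Subgroup G)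
    have hcomm : ∀ f g : MulAut ↥(P : Subgroup G), f * g = g * f := fun f g =>
      (IsCyclic.mulAutMulEquiv ↥(P : Subgroup G)).injective (by rw [map_mul, map_mul, mul_comm])
    have hker : ∀ g : ↥N, φ g = 1 → orderOf g ∣ 7 := by
      intro g hg
      have hgC : g ∈ φ.ker := MonoidHom.mem_ker.2 hg
      rw [Subgroup.normalizerMonoidHom_ker, Subgroup.mem_subgroupOf] at hgC
      rw [← Subgroup.orderOf_coe, ← hP]
      exact Subgroup.orderOf_dvd_natCard _ (hC ▸ hgC)
    have hab : orderOf (φ (a * b)) = 6 := by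
      have h2 : orderOf (φ a) = 2 := orderOf_eq_prime (by rw [← map_pow, ← ha, pow_orderOf_eq_one, map_one])
        (fun h1 => by have := hker a h1; rw [ha] at this; norm_num at this)
      have h3 : orderOf (φ b) = 3 := orderOf_eq_prime (by rw [← map_pow, ← hb, pow_orderOf_eq_one, map_one])
        (fun h1 => by have := hker b h1; rw [hb] at this; norm_num at this)
      rw [map_mul, (show Commute (φ a) (φ b) from hcomm _ _).orderOf_mul_eq_mul_orderOf_of_coprime
        (by rw [h2, h3]; norm_num), h2, h3]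
    have h6 : 6 ∣ orderOf (a * b) := hab ▸ orderOf_map_dvd φ _
    set g := a * b with hg
    have hg0 : orderOf g ≠ 0 := (orderOf_pos g).ne'
    obtain ⟨j, hj⟩ := h6
    have hj0 : j ≠ 0 := by rintro rfl; exact hg0 (by omega)
    refine ⟨((g ^ (3 * j) : ↥N) : G), ((g ^ (2 * j) : ↥N) : G), ?_, ?_, ?_, (g ^ (3 * j)).2⟩
    · rw [Subgroup.orderOf_coe, orderOf_pow_of_dvd (by omega) ⟨2, by omega⟩, hj]
      exact Nat.div_eq_of_eq_mul_left (by omega) (by ring)
    · rw [Subgroup.orderOf_coe, orderOf_pow_of_dvd (by omega) ⟨3, by omega⟩, hj]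
      exact Nat.div_eq_of_eq_mul_left (by omega) (by ring)
    · rw [← Subgroup.coe_mul, ← Subgroup.coe_mul, ← pow_add, ← pow_add, add_comm]
  set cT := Nat.card (Subgroup.centralizer ({t} : Set G)) with hcT
  have hcmem : cT ∈ [6, 12, 18, 24, 36, 54, 72, 108, 216] := by
    have h2 : 2 ∣ cT := ht ▸ Subgroup.orderOf_dvd_natCard _ (Subgroup.mem_centralizer_singleton_iff.2 rfl)
    have h3 : 3 ∣ cT := hw ▸ Subgroup.orderOf_dvd_natCard _ (Subgroup.mem_centralizer_singleton_iff.2 htw)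
    have h7 : ¬ 7 ∣ cT := fun h7 => by
      obtain ⟨x, hx⟩ := exists_prime_orderOf_dvd_card' (G := ↥(Subgroup.centralizer ({t} : Set G))) 7 h7
      obtain ⟨Q, hQ⟩ := (IsPGroup.of_card (n := 1) (by
        rw [Nat.card_zpowers, Subgroup.orderOf_coe, hx, pow_one]) :
          IsPGroup 7 (Subgroup.zpowers (x : G))).exists_le_sylow
      obtain ⟨g, hg⟩ := MulAction.exists_smul_eq G Q P
      have hxP : g * (x : G) * g⁻¹ ∈ (P : Subgroup G) := by
        rw [← hg, Sylow.smul_def]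
        exact Subgroup.smul_mem_pointwise_smul (x : G) (MulAut.conj g) _ (hQ (Subgroup.mem_zpowers _))
      have hx1 : g * (x : G) * g⁻¹ ≠ 1 := fun e => by
        have : (x : G) = 1 := conj_eq_one_iff.1 e
        rw [← Subgroup.orderOf_coe, this, orderOf_one] at hx
        omega
      have hxg : Subgroup.zpowers (g * (x : G) * g⁻¹) = (P : Subgroup G) :=
        Subgroup.eq_of_le_of_card_ge (Subgroup.zpowers_le.2 hxP) (by
          rw [hP, Nat.card_zpowers, ← hx, ← Subgroup.orderOf_coe]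
          exact (orderOf_conj_eq g (x : G)).ge)
      have htP : g * t * g⁻¹ ∈ (P : Subgroup G) := by
        rw [← hC, hCdef, ← hxg, Subgroup.zpowers_eq_closure, Subgroup.centralizer_closure,
          Subgroup.mem_centralizer_singleton_iff]
        have := Subgroup.mem_centralizer_singleton_iff.1 x.2
        calc g * t * g⁻¹ * (g * x * g⁻¹) = g * (t * x) * g⁻¹ := by group
          _ = g * (x * t) * g⁻¹ := by rw [this]
          _ = g * x * g⁻¹ * (g * t * g⁻¹) := by group
      have h := Subgroup.orderOf_dvd_natCard _ htP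
      rw [orderOf_conj_eq, ht, hP] at h
      norm_num at h
    have hd : cT ∣ 216 := by
      have h1 : cT ∣ 7 * 216 := (Subgroup.card_subgroup_dvd_card _).trans hN.dvd
      exact ((Nat.Prime.coprime_iff_not_dvd (by norm_num)).2 h7).symm.dvd_of_dvd_mul_left h1
    have hd' := mem_divisors_of_dvd hd (by norm_num)
    obtain ⟨a, ha⟩ := h2
    obtain ⟨b, hb⟩ := h3
    rw [show Nat.divisors 216 = {1, 2, 3, 4, 6, 8, 9, 12, 18, 24, 27, 36, 54, 72, 108, 216} by
      decide +kernel] at hd'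
    simp only [Finset.mem_insert, Finset.mem_singleton] at hd'
    simp only [List.mem_cons, List.not_mem_nil, or_false]
    omega
  obtain ⟨l, σ, β, d, y, hσ, hn2, hdeg, hy, hl, ⟨hd1, hd2, hd3, hd4, hd5, hd6⟩, hsq, hcol, heq⟩ :=
    exists_involution_equation_one_le hG (P : Subgroup G) hP hC 6 1
      (by rw [← hNdef, hNc]) (by norm_num) le_rfl (by norm_num) ht
  rw [if_pos ⟨t, htN, IsConj.refl t⟩, hN] at heq
  push_cast at hn2 hd3 heq
  rw [hN] at hd2 hsq
  have hσ2 : σ * σ = 1 := by rcases hσ with rfl | rfl <;> norm_num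
  have hl0 : ∀ r ∈ l, r.1 * r.1 ≤ (l.map fun r => r.1 * r.1).sum := fun r hr =>
    List.single_le_sum (fun x hx => by
      obtain ⟨s, -, rfl⟩ := List.mem_map.1 hx; exact mul_self_nonneg _) _
      (List.mem_map.2 ⟨r, hr, rfl⟩)
  have hlq : ∀ r ∈ l, r.2.1 * r.2.1 ≤ (l.map fun r => r.2.1 * r.2.1).sum := fun r hr =>
    List.single_le_sum (fun _ _ => Nat.zero_le _) _ (List.mem_map.2 ⟨r, hr, rfl⟩)
  have hlT : ∀ r ∈ l, (r.1, r.2.1) ∈ Case1512.types := fun r hr => by
    obtain ⟨h0, h1, h2, h3, -⟩ := hl r hr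
    rw [hN] at h2
    refine Case1512.mem_types h0 ?_ h1 h2 (by exact_mod_cast h3) (by have := hlq r hr; omega)
    have := hl0 r hr
    nlinarith [mul_self_nonneg (β + σ)]
  have hpar : ∀ r ∈ l, 2 ∣ (r.2.1 : ℤ) - r.2.2 := fun r hr => (hl r hr).2.2.2.2.1
  have hsqz : (l.map fun r => (r.2.1 : ℤ) * r.2.1).sum + (d : ℤ) * d ≤ 1511 := by
    have h1 : (((l.map fun r => r.2.1 * r.2.1).sum : ℕ) : ℤ)
        = (l.map fun r => (r.2.1 : ℤ) * r.2.1).sum := by
      rw [Nat.cast_list_sum, List.map_map]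
      exact congrArg List.sum (List.map_congr_left fun r _ => by simp)
    rw [← h1]
    have : (l.map fun r => r.2.1 * r.2.1).sum + d * d ≤ 1511 := by omega
    exact_mod_cast this
  -- clear the denominators
  have hdvd : ∀ r ∈ l, (r.2.1 : ℤ) ∣ 216 := fun r hr => by
    have := hlT r hr
    simp only [Case1512.types, List.mem_cons, List.not_mem_nil, or_false, Prod.mk.injEq] at this
    rcases this with ⟨-, e⟩ | ⟨-, e⟩ | ⟨-, e⟩ | ⟨-, e⟩ | ⟨-, e⟩ | ⟨-, e⟩ | ⟨-, e⟩ <;> rw [e] <;> norm_num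
  have hclear : (216 : ℚ) * (l.map fun r => (r.1 : ℚ) * (r.2.2 : ℚ) ^ 2 / r.2.1).sum
      = (((l.map fun r => r.1 * (r.2.2 * r.2.2) * (216 / (r.2.1 : ℤ))).sum : ℤ) : ℚ) := by
    rw [Int.cast_list_sum, List.map_map, ← List.sum_map_mul_left]
    refine congrArg List.sum (List.map_congr_left fun r hr => ?_)
    have h0 : (r.2.1 : ℚ) ≠ 0 := by
      have := (hl r hr).2.1
      exact_mod_cast (by omega : r.2.1 ≠ 0)
    simp only [Function.comp_apply, Int.cast_mul]
    rw [Int.cast_div (hdvd r hr) (by exact_mod_cast h0)]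
    push_cast
    field_simp
  by_cases hco : β + σ = 0
  · have hco' : (1 : ℚ) * (β : ℚ) + (σ : ℚ) = 0 := by
      rw [one_mul]; exact_mod_cast hco
    rw [hco', zero_mul, zero_div, add_zero] at heq
    refine Case1512.false_of_values hcmem l hlT hpar ?_ ?_ ?_ ?_ ?_ ?_
    · nlinarith
    · rw [show ((1 : ℕ) : ℤ) * β + σ = 0 by push_cast; linarith] at hdeg
      linarith
    · nlinarith [mul_self_nonneg (d : ℤ)]
    · rw [show ((1 : ℕ) : ℤ) * β + σ = 0 by push_cast; linarith] at hy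
      linarith
    · push_cast at hcol
      nlinarith [mul_self_nonneg y]
    · have h7 : (cT : ℚ) * cT = 216 + 216 * (l.map fun r => (r.1 : ℚ) * (r.2.2 : ℚ) ^ 2 / r.2.1).sum := by
        linarith
      rw [hclear] at h7
      exact_mod_cast h7
  · have hTd : (β + σ, d) ∈ Case1512.types := by
      refine Case1512.mem_types hco ?_ hd1 hd2 ?_ (by omega)
      · nlinarith [List.sum_nonneg (l := l.map fun r => r.1 * r.1) (fun x hx => by
          obtain ⟨s, -, rfl⟩ := List.mem_map.1 hx; exact mul_self_nonneg _)]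
      · have : (7 : ℤ) ∣ ((d : ℤ) - (β - σ * 6)) + 7 * (-σ) := dvd_add hd3 (dvd_mul_right 7 _)
        rwa [show (d : ℤ) - (β - σ * 6) + 7 * (-σ) = (d : ℤ) - (β + σ) by ring] at this
    have hTd' := hTd
    simp only [Case1512.types, List.mem_cons, List.not_mem_nil, or_false, Prod.mk.injEq] at hTd'
    have hdd : (d : ℤ) ∣ 216 := by
      rcases hTd' with ⟨-, e⟩ | ⟨-, e⟩ | ⟨-, e⟩ | ⟨-, e⟩ | ⟨-, e⟩ | ⟨-, e⟩ | ⟨-, e⟩ <;> rw [e] <;> norm_num
    refine Case1512.false_of_values hcmem (l ++ [(β + σ, d, y)]) ?_ ?_ ?_ ?_ ?_ ?_ ?_ ?_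
    · intro r hr
      rcases List.mem_append.1 hr with h | h
      · exact hlT r h
      · rw [List.mem_singleton] at h; rw [h]; exact hTd
    · intro r hr
      rcases List.mem_append.1 hr with h | h
      · exact hpar r h
      · rw [List.mem_singleton] at h; rw [h]; exact hd4
    · simp only [List.map_append, List.sum_append, List.map_cons, List.map_nil, List.sum_cons,
        List.sum_nil]
      linarith
    · simp only [List.map_append, List.sum_append, List.map_cons, List.map_nil, List.sum_cons,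
        List.sum_nil]
      push_cast at hdeg
      linarith
    · simp only [List.map_append, List.sum_append, List.map_cons, List.map_nil, List.sum_cons,
        List.sum_nil]
      linarith
    · simp only [List.map_append, List.sum_append, List.map_cons, List.map_nil, List.sum_cons,
        List.sum_nil]
      push_cast at hy
      linarith
    · simp only [List.map_append, List.sum_append, List.map_cons, List.map_nil, List.sum_cons,
        List.sum_nil]
      push_cast at hcol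
      linarith
    · simp only [List.map_append, List.sum_append, List.map_cons, List.map_nil, List.sum_cons,
        List.sum_nil, add_zero]
      have hd0 : (d : ℚ) ≠ 0 := by exact_mod_cast (by omega : d ≠ 0)
      have h7 : (cT : ℚ) * cT = 216 + 216 * (l.map fun r => (r.1 : ℚ) * (r.2.2 : ℚ) ^ 2 / r.2.1).sum
          + (((β + σ) * (y * y) * (216 / (d : ℤ)) : ℤ) : ℚ) := by
        simp only [Int.cast_mul]
        rw [Int.cast_div hdd (by exact_mod_cast hd0)]
        push_cast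
        field_simp at heq ⊢
        linarith
      rw [hclear, add_assoc] at h7
      exact_mod_cast h7

end CfsgLib.Classification.OrderMid
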