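import Cfsg.Agent.Classification.OrderRange.Case5400

/-!
# No simple groups of order 1800, 2400, 2700, 3600

Two Sylow 5-subgroups meet in a subgroup of order 5 whose normaliser has several Sylow 5-subgroups,
so it has index 12 and the generator is a 5-cycle in a primitive action of degree 12.
-/

set_option autoImplicit false
set_option linter.style.haveILetI false

namespace CfsgLib.Classification.OrderMid

open CfsgLib.Small CfsgLib.Classification.SmallOrders CfsgLib.Classification.OrderRange MulAction

/-- There is no simple group of order 1800, 2400, 2700 or 3600. -/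
theorem false_of_card_twenty_five_mul {G : Type*} [Group G] [Finite G] [IsSimpleGroup G]
    (hG : ¬ IsMulCommutative G) {m : ℕ} (hm : m = 72 ∨ m = 96 ∨ m = 108 ∨ m = 144)
    (hN' : Nat.card G = 5 ^ 2 * m) : False := by
  classical
  haveI : Fact (Nat.Prime 5) := ⟨by norm_num⟩
  have h5m : ¬ 5 ∣ m := by rcases hm with rfl | rfl | rfl | rfl <;> norm_num
  have hP25 : ∀ Q : Sylow 5 G, Nat.card (Q : Subgroup G) = 5 ^ 2 := card_sylow_eq hN' h5m
  have hmem := card_sylow_mem hG hN' two_ne_zero h5m
  have hmod : Nat.card (Sylow 5 G) % (5 * 5) ≠ 1 := by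
    have hd : Nat.card (Sylow 5 G) ∈ [6, 16, 36, 96] := by
      rcases hm with rfl | rfl | rfl | rfl
      · rw [show (Nat.divisors 72).filter (fun d => d % 5 = 1 ∧ d ≠ 1) = {6, 36} by decide +kernel]
          at hmem
        simp only [Finset.mem_insert, Finset.mem_singleton] at hmem
        rcases hmem with h | h <;> simp [h]
      · rw [show (Nat.divisors 96).filter (fun d => d % 5 = 1 ∧ d ≠ 1) = {6, 16, 96} by decide +kernel]
          at hmem
        simp only [Finset.mem_insert, Finset.mem_singleton] at hmem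
        rcases hmem with h | h | h <;> simp [h]
      · rw [show (Nat.divisors 108).filter (fun d => d % 5 = 1 ∧ d ≠ 1) = {6, 36} by decide +kernel]
          at hmem
        simp only [Finset.mem_insert, Finset.mem_singleton] at hmem
        rcases hmem with h | h <;> simp [h]
      · rw [show (Nat.divisors 144).filter (fun d => d % 5 = 1 ∧ d ≠ 1) = {6, 16, 36} by decide +kernel]
          at hmem
        simp only [Finset.mem_insert, Finset.mem_singleton] at hmem
        rcases hmem with h | h | h <;> simp [h]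
    simp only [List.mem_cons, List.not_mem_nil, or_false] at hd
    rcases hd with h | h | h | h <;> rw [h] <;> norm_num
  obtain ⟨D, P, R, c, d, hPR, hD, hDP, hPM, hRM, hMc, hMd, hcd, -, hfac, hn1, hnmod, hndvd⟩ :=
    exists_inter_normalizer hG hN' h5m le_rfl hmod
  set M := Subgroup.normalizer (D : Set G) with hMdef
  rw [show 2 - 1 = 1 from rfl, pow_one] at hD
  have hd10 : 10 ≤ d := by
    by_contra hlt
    have h1 := (hfac.trans (Nat.factorial_dvd_factorial (show d ≤ 9 by omega)))
    have h25 : 25 ∣ Nat.factorial 9 := (Dvd.dvd.mul_left ⟨m, by omega⟩ 2).trans h1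
    exact absurd h25 (by decide +kernel)
  have hcm : c * 10 ≤ m := hcd ▸ Nat.mul_le_mul_left c hd10
  have hc0 : 0 < c := Nat.pos_of_ne_zero fun h => by
    rw [h, zero_mul] at hcd; exact h5m (hcd ▸ dvd_zero 5)
  have hc : m = 144 ∧ c = 12 ∧ Nat.card (Sylow 5 M) = 6 := by
    have hle := Nat.le_of_dvd hc0 hndvd
    have hcdvd : c ∣ m := ⟨d, hcd.symm⟩
    have hc14 : c ≤ 14 := by omega
    have hn : Nat.card (Sylow 5 M) = 6 ∨ Nat.card (Sylow 5 M) = 11 := by omega
    rcases hn with h | h
    · rw [h] at hndvd
      rcases (show c = 6 ∨ c = 12 by omega) with rfl | rfl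
      · exact absurd (card_sylow_five_eq_one (T := M) hMc (by simp)) hn1
      · exact ⟨by omega, rfl, h⟩
    · exfalso
      rw [h] at hndvd
      have h11 := hndvd.trans hcdvd
      rcases hm with rfl | rfl | rfl | rfl <;> norm_num at h11
  obtain ⟨rfl, rfl, hn6⟩ := hc
  obtain rfl : d = 12 := by omega
  have hN : Nat.card G = 3600 := hN'
  -- `D` is central in `M`
  have hDsylow : ∀ Q : Sylow 5 G, (Q : Subgroup G) ≤ M → D ≤ (Q : Subgroup G) := fun Q hQ => by
    have hD5 : IsPGroup 5 D := IsPGroup.of_card (n := 1) (by rw [hD, pow_one])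
    have h := Q.3 (IsPGroup.to_sup_of_normal_right' Q.2 hD5 hQ) le_sup_left
    exact le_sup_right.trans_eq h
  have hab : ∀ Q : Sylow 5 G, (Q : Subgroup G) ≤ M →
      (Q : Subgroup G) ≤ Subgroup.centralizer (D : Set G) := fun Q hQ g hg =>
    Subgroup.mem_centralizer_iff.2 fun a ha =>
      (Subgroup.mem_centralizer_singleton_iff.1
        (le_centralizer_of_card_sq (hP25 Q) (hDsylow Q hQ ha) hg)).symm
  set C := Subgroup.centralizer (D : Set G) with hCdef
  have hCM : C ≤ M := Subgroup.centralizer_le_normalizer _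
  have hPC := hab P hPM
  have hRC := hab R hRM
  have hCeq : C = M := by
    refine (Subgroup.subgroupOf_eq_top.1 ?_).antisymm' hCM
    have h25 : 5 ^ 2 ∣ Nat.card (C.subgroupOf M) := by
      rw [Nat.card_congr (Subgroup.subgroupOfEquivOfLe hCM).toEquiv, ← hP25 P]
      exact Subgroup.card_dvd_of_le hPC
    rcases eq_top_or_six_dvd_index hMc hn6 _ h25 with h | h
    · exact h
    exfalso
    have hmul := (C.subgroupOf M).card_mul_index
    obtain ⟨e, he⟩ := h25
    obtain ⟨i, hi⟩ := h
    rw [he, hi, hMc] at hmul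
    have hei : e * i = 2 := by
      have : 5 ^ 2 * 6 * (e * i) = 5 ^ 2 * 6 * 2 := by rw [← show 5 ^ 2 * 12 = 5 ^ 2 * 6 * 2 from rfl, ← hmul]; ring
      exact Nat.eq_of_mul_eq_mul_left (by norm_num) this
    have he2 : e ≤ 2 := Nat.le_of_dvd two_pos ⟨i, hei.symm⟩
    rw [Nat.card_congr (Subgroup.subgroupOfEquivOfLe hCM).toEquiv] at he
    have hsub : Subsingleton (Sylow 5 C) := by
      refine (Nat.card_eq_one_iff_unique.1 ?_).1
      have h1 := card_sylow_mod (G := C) 5
      have h2 := card_sylow_dvd he (fun h5 => by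
        have := Nat.le_of_dvd (Nat.pos_of_ne_zero fun h0 => by simp [h0] at hei) h5; omega)
      have h3 := Nat.le_of_dvd (Nat.pos_of_ne_zero fun h0 => by simp [h0] at hei) h2
      omega
    exact hPR (Sylow.subtype_injective (hP := hPC) (hQ := hRC) (Subsingleton.elim _ _))
  -- a generator of `D`
  obtain ⟨x', hx'⟩ := exists_prime_orderOf_dvd_card' (G := D) 5 (by rw [hD])
  obtain ⟨x, hxD⟩ := x'
  rw [← Subgroup.orderOf_coe] at hx'
  change orderOf x = 5 at hx'
  have hzx : Subgroup.zpowers x = D := Subgroup.eq_of_le_of_card_ge (Subgroup.zpowers_le.2 hxD)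
    (by rw [Nat.card_zpowers, hx', hD])
  have hCx : Subgroup.centralizer ({x} : Set G) = M := by
    rw [← hCeq, hCdef, ← hzx, ← Subgroup.centralizer_closure, Subgroup.zpowers_eq_closure]
  have hxM : x ∈ M := Subgroup.le_normalizer hxD
  have hMtop : M ≠ ⊤ := fun e => by rw [e, Subgroup.index_top] at hMd; omega
  -- `M` is maximal and self-normalising
  have hmax : ∀ K : Subgroup G, M < K → K = ⊤ := by
    intro K hK
    by_contra hKtop
    have h1 := two_mul_card_dvd_factorial_index hG K hKtop
    have h2 := Subgroup.index_dvd_of_le hK.le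
    rw [hMd] at h2
    have h3 : K.index < 12 := hMd ▸ Subgroup.index_strictAnti hK
    have h4 : K.index ≤ 9 := by
      by_contra h9
      interval_cases h : K.index <;> omega
    rw [hN] at h1
    exact absurd (h1.trans (Nat.factorial_dvd_factorial h4)) (by decide +kernel)
  have hMbot : M ≠ ⊥ := fun e => by
    rw [e, Subgroup.card_bot] at hMc; omega
  have hNM : Subgroup.normalizer (M : Set G) = M := by
    rcases (Subgroup.le_normalizer (H := M)).eq_or_lt with e | e
    · exact e.symm
    · exact absurd (hmax _ e) (normalizer_ne_top hMbot hMtop)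
  -- fixed points of `x` on the cosets
  haveI : Fintype (G ⧸ M) := Fintype.ofFinite _
  set o : G ⧸ M := ((1 : G) : G ⧸ M) with ho
  have hsto : stabilizer G o = M := stabilizer_quotient M
  let F : SubMulAction M (G ⧸ M) :=
    { carrier := {q | x • q = q ∧ q ≠ o}
      smul_mem' := fun m q ⟨hq, hq'⟩ => by
        have hcomm : x * (m : G) = m * x :=
          Subgroup.mem_centralizer_singleton_iff.1 (hCx.symm ▸ m.2) |>.symm
        refine ⟨?_, fun h => hq' ?_⟩
        · show x • (m : G) • q = (m : G) • q
          rw [smul_smul, hcomm, ← smul_smul, hq]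
        · have hm : (m : G)⁻¹ • o = o :=
            mem_stabilizer_iff.1 (hsto.symm ▸ inv_mem m.2)
          have h' : (m : G) • q = o := h
          rw [← inv_smul_smul (m : G) q, h', hm] }
  have h6 : 6 ∣ Nat.card F := by
    refine CfsgLib.Derangement.dvd_card_of_dvd_orbit (M := M) fun ⟨q, hq⟩ => ?_
    obtain ⟨g, rfl⟩ := QuotientGroup.mk_surjective q
    obtain ⟨hfix, hne⟩ := hq
    rw [Nat.card_coe_set_eq, ← index_stabilizer]
    have hstq : stabilizer M (⟨(g : G ⧸ M), hfix, hne⟩ : F) = stabilizer M (g : G ⧸ M) := by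
      ext m
      simp only [mem_stabilizer_iff]
      exact ⟨fun h => congrArg Subtype.val h, fun h => Subtype.ext h⟩
    rw [hstq]
    have hy : g⁻¹ * x * g ∈ M := by
      have := QuotientGroup.eq.1 (show ((x * g : G) : G ⧸ M) = (g : G ⧸ M) from hfix).symm
      rwa [← mul_assoc] at this
    refine (eq_top_or_six_dvd_index hMc hn6 _ ?_).resolve_left fun htop => hne ?_
    · -- a conjugate of a Sylow subgroup of `M` fixes `g M`
      set y : M := ⟨g⁻¹ * x * g, hy⟩
      have hy5 : orderOf y = 5 := by
        rw [← Subgroup.orderOf_coe, ← hx']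
        show orderOf (g⁻¹ * x * g) = _
        rw [show g⁻¹ * x * g = MulAut.conj g⁻¹ x by simp, MulEquiv.orderOf_eq]
      obtain ⟨Q, hQ⟩ := (IsPGroup.of_card (n := 1) (by rw [Nat.card_zpowers, hy5, pow_one]) :
        IsPGroup 5 (Subgroup.zpowers y)).exists_le_sylow
      have hQc : Nat.card (Q : Subgroup M) = 5 ^ 2 := card_sylow_eq hMc (by norm_num) Q
      have hfixes : ∀ a ∈ (Q : Subgroup M), g * (a : G) * g⁻¹ ∈ M ∧
          (g * (a : G) * g⁻¹) • (g : G ⧸ M) = g := by
        intro a ha
        refine ⟨?_, ?_⟩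
        · have h1 := Subgroup.mem_centralizer_singleton_iff.1
            (le_centralizer_of_card_sq hQc (hQ (Subgroup.mem_zpowers y)) ha)
          have h2 : (a : G) * (g⁻¹ * x * g) = g⁻¹ * x * g * a := congrArg Subtype.val h1
          refine hCx.le (Subgroup.mem_centralizer_singleton_iff.2 ?_)
          calc g * (a : G) * g⁻¹ * x = g * ((a : G) * (g⁻¹ * x * g)) * g⁻¹ := by group
            _ = x * (g * a * g⁻¹) := by rw [h2]; group
        · show ((g * (a : G) * g⁻¹ * g : G) : G ⧸ M) = g
          rw [inv_mul_cancel_right, QuotientGroup.eq]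
          simp
      let L : Subgroup M :=
        ((Q : Subgroup M).map ((MulAut.conj g).toMonoidHom.comp M.subtype)).subgroupOf M
      have hL : Nat.card L = 5 ^ 2 := by
        have hle : (Q : Subgroup M).map ((MulAut.conj g).toMonoidHom.comp M.subtype) ≤ M := by
          rintro _ ⟨a, ha, rfl⟩; exact (hfixes a ha).1
        rw [Nat.card_congr (Subgroup.subgroupOfEquivOfLe hle).toEquiv,
          Subgroup.card_map_of_injective
            ((MulAut.conj g).injective.comp M.subtype_injective), hQc]
      refine hL ▸ Subgroup.card_dvd_of_le fun m hm => ?_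
      obtain ⟨a, ha, hae⟩ := hm
      show (m : G) • (g : G ⧸ M) = g
      rw [show (m : G) = g * a * g⁻¹ from hae.symm]
      exact (hfixes a ha).2
    · -- only `M` itself is fixed by all of `M`
      have hconj : M.map (MulAut.conj g⁻¹).toMonoidHom = M := by
        refine Subgroup.eq_of_le_of_card_ge ?_ (Subgroup.card_map_of_injective
          (MulAut.conj g⁻¹).injective).ge
        rintro _ ⟨m, hm, rfl⟩
        have h1 : m • (g : G ⧸ M) = g :=
          (mem_stabilizer_iff (G := M)).1 (htop.ge (Subgroup.mem_top (⟨m, hm⟩ : M)))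
        have := QuotientGroup.eq.1 (show ((m * g : G) : G ⧸ M) = g from h1).symm
        simpa [mul_assoc] using this
      have hgN : g⁻¹ ∈ Subgroup.normalizer (M : Set G) := by
        rw [Subgroup.mem_normalizer_iff]
        intro h
        constructor
        · intro hh
          exact hconj.le ⟨h, hh, rfl⟩
        · intro hh
          obtain ⟨k, hk, hke⟩ := hconj.ge hh
          rwa [← (MulAut.conj g⁻¹).injective (show MulAut.conj g⁻¹ k = MulAut.conj g⁻¹ h from hke)]
      rw [hNM] at hgN
      exact QuotientGroup.eq.2 (by simpa using hgN)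
  -- count
  set f := MulAction.toPermHom G (G ⧸ M) with hf
  have hinj : Function.Injective f := toPermHom_coset_injective hMtop
  have hα : Fintype.card (G ⧸ M) = 12 := by
    rw [← Nat.card_eq_fintype_card, ← Subgroup.index_eq_card, hMd]
  set σ := f x with hσ
  have hord : orderOf σ = 5 := by rw [hσ, orderOf_injective f hinj, hx']
  obtain ⟨n, hn5⟩ := Equiv.Perm.cycleType_prime_order (σ := σ) (hord ▸ (Fact.out : Nat.Prime 5))
  have hsupp : σ.support.card = 5 * (n + 1) := by
    rw [← Equiv.Perm.sum_cycleType, hn5, hord, Multiset.sum_replicate, smul_eq_mul, mul_comm]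
  have hFc : Nat.card F = (σ.supportᶜ.erase o).card := by
    rw [← Nat.card_eq_finsetCard]
    refine Nat.card_congr (Equiv.subtypeEquivRight fun q => ?_)
    rw [Finset.mem_erase, Finset.mem_compl, Equiv.Perm.notMem_support]
    exact ⟨fun h => ⟨h.2, h.1⟩, fun h => ⟨h.2, h.1⟩⟩
  have hofix : o ∈ σ.supportᶜ := by
    rw [Finset.mem_compl, Equiv.Perm.notMem_support]
    exact mem_stabilizer_iff.1 (hsto.symm ▸ hxM)
  rw [hFc, Finset.card_erase_of_mem hofix, Finset.card_compl, hα, hsupp] at h6
  have hle : σ.support.card ≤ 12 := hα ▸ Finset.card_le_univ _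
  have hn0 : n = 0 := by omega
  rw [hn0] at hsupp
  have hcyc : σ.IsCycle :=
    Equiv.Perm.isCycle_of_prime_order (hord ▸ Fact.out) (by rw [hord, hsupp]; norm_num)
  haveI : IsPreprimitive G (G ⧸ M) := by
    haveI : Nontrivial (G ⧸ M) := Fintype.one_lt_card_iff_nontrivial.1 (by omega)
    rw [← isCoatom_stabilizer_iff_preprimitive G o, hsto]
    exact ⟨hMtop, hmax⟩
  have hprim : IsPreprimitive f.range (G ⧸ M) :=
    IsPreprimitive.of_surjective (φ := f.rangeRestrict)
      (f := { toFun := id, map_smul' := fun _ _ => rfl }) Function.surjective_id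
  have hA := CfsgLib.JordanPrime.alternatingGroup_le_of_prime_cycle hprim
    (Fact.out : Nat.Prime 5) (by omega) hcyc (by rw [hsupp]) ⟨x, rfl⟩
  haveI : Nontrivial (G ⧸ M) := Fintype.one_lt_card_iff_nontrivial.1 (by omega)
  have h1 := Subgroup.card_le_of_le hA
  rw [← Nat.card_congr (MonoidHom.ofInjective hinj).toEquiv, hN] at h1
  have h2 := two_mul_card_alternatingGroup (α := G ⧸ M)
  rw [Fintype.card_perm, hα, ← Nat.card_eq_fintype_card] at h2
  have h3 : 7200 < Nat.factorial 12 := by decide +kernel
  omega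

end CfsgLib.Classification.OrderMid
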