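import Cfsg.Agent.Classification.OrderMid.Option
import Cfsg.Agent.Derangement.Subgroup

/-!
# No simple group of order 3360

Twenty-one Sylow 5-subgroups leave no room for an element of order 14, with 56 the normaliser of a
Sylow 5-subgroup would normalise a Sylow 3-subgroup with too small a normaliser, and 336 excludes
the degree 16 of the principal 7-block.
-/

set_option autoImplicit false
set_option linter.style.haveILetI false

namespace CfsgLib.Classification.OrderMid

open Cfsg CfsgLib.Small CfsgLib.Classification.SmallOrders CfsgLib.Classification.OrderRange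
open MulAction

variable {G : Type*} [Group G] [Finite G] [IsSimpleGroup G]

/-- An involution commuting with an element of order seven that fixes no Sylow 5-subgroup fixes a
multiple of seven of them, which is impossible among twenty-one. -/
theorem false_of_twenty_one (hG : ¬ IsMulCommutative G) [Fact (Nat.Prime 5)]
    (hn : Nat.card (Sylow 5 G) = 21) (h5 : 5 ∣ Nat.card G) {x t : G} (hx : orderOf x = 7)
    (hfix : ∀ Q : Sylow 5 G, x • Q ≠ Q) (ht : orderOf t = 2) (hxt : t * x = x * t) : False := by
  classical
  have htt : t * t = 1 := by rw [← pow_two, ← ht, pow_orderOf_eq_one]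
  have h4 := four_dvd_moved hG (α := Sylow 5 G) htt
  let F : SubMulAction (Subgroup.zpowers x) (Sylow 5 G) :=
    { carrier := {Q | t • Q = Q}
      smul_mem' := fun m Q (hQ : t • Q = Q) => by
        obtain ⟨k, hk⟩ := m.2
        have hc : t * (m : G) = m * t := by
          rw [← hk]
          exact (Commute.zpow_right (show Commute t x from hxt) k).eq
        show t • ((m : G) • Q) = (m : G) • Q
        rw [smul_smul, hc, ← smul_smul, hQ] }
  have h7 : 7 ∣ Nat.card F := by
    refine CfsgLib.Derangement.dvd_card_of_dvd_orbit (M := Subgroup.zpowers x) fun Q => ?_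
    have hcard : Nat.card (Subgroup.zpowers x) = 7 := by rw [Nat.card_zpowers, hx]
    haveI : Fact (Nat.Prime 7) := ⟨by norm_num⟩
    obtain ⟨j, hj⟩ := (IsPGroup.of_card (n := 1) (by rw [hcard, pow_one]) :
      IsPGroup 7 (Subgroup.zpowers x)).card_orbit Q
    rcases Nat.eq_zero_or_pos j with rfl | hj0
    · exfalso
      rw [pow_zero] at hj
      haveI := (Nat.card_eq_one_iff_unique.1 hj).1
      refine hfix Q ?_
      have h := congrArg Subtype.val (Subsingleton.elim
        (⟨_, mem_orbit Q (⟨x, Subgroup.mem_zpowers x⟩ : Subgroup.zpowers x)⟩ :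
          orbit (Subgroup.zpowers x) Q) ⟨Q, mem_orbit_self Q⟩)
      exact congrArg Subtype.val h
    · rw [hj]; exact dvd_pow_self 7 (by omega)
  have hsum : Nat.card F + Nat.card {Q : Sylow 5 G // t • Q ≠ Q} = 21 := by
    rw [← hn, ← Nat.card_sum]
    exact Nat.card_congr (Equiv.sumCompl fun Q : Sylow 5 G => t • Q = Q)
  have h0 : Nat.card {Q : Sylow 5 G // t • Q ≠ Q} = 0 := by omega
  have hall : ∀ Q : Sylow 5 G, t • Q = Q := fun Q => by
    by_contra hQ
    haveI : Nonempty {Q : Sylow 5 G // t • Q ≠ Q} := ⟨⟨Q, hQ⟩⟩
    exact Nat.card_pos.ne' h0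
  exact ne_one_of_orderOf_two ht (sylow_action_faithful hG h5 hall)

theorem false_of_card_3360 (hG : ¬ IsMulCommutative G) (hN : Nat.card G = 3360) : False := by
  classical
  haveI : Fact (Nat.Prime 5) := ⟨by norm_num⟩
  haveI : Fact (Nat.Prime 7) := ⟨by norm_num⟩
  haveI : Fact (Nat.Prime 3) := ⟨by norm_num⟩
  have hN5 : Nat.card G = 5 ^ 1 * 672 := hN
  have hN7 : Nat.card G = 7 ^ 1 * 480 := hN
  obtain ⟨P⟩ : Nonempty (Sylow 5 G) := inferInstance
  obtain ⟨R⟩ : Nonempty (Sylow 7 G) := inferInstance
  have hP : Nat.card (P : Subgroup G) = 5 := by simpa using card_sylow_eq hN5 (by norm_num) P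
  have hR : Nat.card (R : Subgroup G) = 7 := by simpa using card_sylow_eq hN7 (by norm_num) R
  -- the principal 7-block has a degree 16, and `C(R)` has even order
  have hn7 := card_sylow_mem hG hN7 one_ne_zero (by norm_num)
  rw [show (Nat.divisors 480).filter (fun d => d % 7 = 1 ∧ d ≠ 1) = {8, 15, 120} by decide +kernel]
    at hn7
  simp only [Finset.mem_insert, Finset.mem_singleton] at hn7
  have hn120 : Nat.card (Sylow 7 G) = 120 := by
    rcases hn7 with h | h | h
    · exact (false_of_optionKilled hG (by norm_num) R hR hN (by norm_num)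
        (by rw [h]; decide +kernel)).elim
    · exact (false_of_optionKilled hG (by norm_num) R hR hN (by norm_num)
        (by rw [h]; decide +kernel)).elim
    · exact h
  obtain ⟨χ, hχ⟩ := (degrees_of_primeKilled (p := 7) hG hN
    (pred := fun n => n == 16) (inA := fun _ => false) (start := false) (by decide +kernel)).resolve_right
    fun h => Bool.false_ne_true h.1
  have hn5 := card_sylow_mem hG hN5 one_ne_zero (by norm_num)
  rw [show (Nat.divisors 672).filter (fun d => d % 5 = 1 ∧ d ≠ 1) = {6, 16, 21, 56, 96, 336} by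
    decide +kernel] at hn5
  simp only [Finset.mem_insert, Finset.mem_singleton] at hn5
  have hmulP := card_sylow_mul_card_normalizer P
  rw [hN] at hmulP
  rcases hn5 with h | h | h | h | h | h
  · have := two_mul_card_dvd_factorial_sylow hG (p := 5) (by rw [hN]; norm_num)
    rw [h, hN] at this
    exact absurd this (by decide +kernel)
  · exact false_of_optionKilled hG (by norm_num) P hP hN (by norm_num) (by rw [h]; decide +kernel)
  · -- twenty-one
    obtain ⟨r, c, hr, hr1, hNc, hCc⟩ := exists_relIndex hG R hR
    have hmulR := card_sylow_mul_card_normalizer R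
    rw [hn120, hN, hNc] at hmulR
    have h2 : 2 ∣ c := by
      have hr' := mem_divisors_of_dvd hr (by norm_num)
      rw [show Nat.divisors (7 - 1) = {1, 2, 3, 6} by decide] at hr'
      simp only [Finset.mem_insert, Finset.mem_singleton] at hr'
      have hrc : r * c = 4 := by
        have : 840 * (r * c) = 840 * 4 := by rw [show 840 * 4 = 3360 from rfl, ← hmulR]; ring
        omega
      rcases hr' with rfl | rfl | rfl | rfl <;> omega
    haveI : Fact (Nat.Prime 2) := ⟨Nat.prime_two⟩
    obtain ⟨u, hu⟩ := exists_prime_orderOf_dvd_card'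
      (G := ↥(Subgroup.centralizer ((R : Subgroup G) : Set G))) 2 (by rw [hCc]; exact h2.mul_left 7)
    obtain ⟨x', hx'⟩ := exists_prime_orderOf_dvd_card' (G := ↥(R : Subgroup G)) 7 (by rw [hR])
    refine false_of_twenty_one hG h (by rw [hN]; norm_num) (x := (x' : G)) (t := (u : G))
      (by rw [Subgroup.orderOf_coe, hx']) (fun Q hQ => ?_) (by rw [Subgroup.orderOf_coe, hu]) ?_
    · have hQN : Nat.card (Subgroup.normalizer ((Q : Subgroup G) : Set G)) = 160 := by
        have := card_sylow_mul_card_normalizer Q
        rw [h, hN] at this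
        omega
      have h1 := Subgroup.orderOf_dvd_natCard _ (Sylow.smul_eq_iff_mem_normalizer.1 hQ)
      rw [Subgroup.orderOf_coe, hx'] at h1
      replace h1 : 7 ∣ Nat.card (Subgroup.normalizer ((Q : Subgroup G) : Set G)) := h1
      rw [hQN] at h1
      norm_num at h1
    · exact (Subgroup.mem_centralizer_iff.1 u.2 x' x'.2).symm
  · -- fifty-six
    obtain ⟨r, c, hr, hr1, hNc, hCc⟩ := exists_relIndex hG P hP
    rw [h, hNc] at hmulP
    have hrc : r * c = 12 := by
      have : 280 * (r * c) = 280 * 12 := by rw [show 280 * 12 = 3360 from rfl, ← hmulP]; ring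
      omega
    have hr' := mem_divisors_of_dvd hr (by norm_num)
    rw [show Nat.divisors (5 - 1) = {1, 2, 4} by decide] at hr'
    simp only [Finset.mem_insert, Finset.mem_singleton] at hr'
    set C := Subgroup.centralizer ((P : Subgroup G) : Set G) with hC
    have hr4 : r = 4 := by
      rcases hr' with rfl | rfl | rfl
      · omega
      · exfalso
        haveI := Fintype.ofFinite G
        have hrel : C.relIndex (Subgroup.normalizer ((P : Subgroup G) : Set G)) = 2 := by
          have h1 := card_centralizer_mul_relIndex (P : Subgroup G)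
          rw [hCc, hNc] at h1
          exact Nat.eq_of_mul_eq_mul_left (show 0 < 5 * c by omega) (h1.trans (by ring))
        obtain ⟨L, d, h1, h2, h3, h4, h5, h6, h7, h8, h9, -⟩ :=
          block_degrees hG (by norm_num) P hP hN (by norm_num) hrel le_rfl (by norm_num) hCc
        have hc6 : c = 6 := by omega
        subst hc6
        have hk : killed 3360 5 2 6 (fun _ => false) (fun _ => false) L.length false 1 3359 = true := by
          rw [show L.length = 1 by omega]; decide +kernel
        rcases killed_spec L _ _ _ hk h2 d h3 h4 h5 h6 h7 h8 h9 with ⟨x, -, hpx⟩ | hpd | ⟨-, -, hAd⟩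
        exacts [Bool.false_ne_true hpx, Bool.false_ne_true hpd, Bool.false_ne_true hAd]
      · rfl
    subst hr4
    have hc3 : c = 3 := by omega
    subst hc3
    have hCc' : Nat.card C = 3 ^ 1 * 5 := hCc.trans (by norm_num)
    obtain ⟨S⟩ : Nonempty (Sylow 3 C) := inferInstance
    have hS : Nat.card (S : Subgroup C) = 3 := by simpa using card_sylow_eq hCc' (by norm_num) S
    have hS1 : Nat.card (Sylow 3 C) = 1 := by
      have h1 := card_sylow_mod (G := C) 3
      have h2 := card_sylow_dvd hCc' (by norm_num)
      have h3 := Nat.le_of_dvd (by norm_num) h2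
      interval_cases h : Nat.card (Sylow 3 C) <;> omega
    set K := (S : Subgroup C).map C.subtype with hKdef
    have hKc : Nat.card K = 3 := by
      rw [hKdef, Subgroup.card_map_of_injective C.subtype_injective, hS]
    have hK3 : Nat.card K = 3 ^ (Nat.card G).factorization 3 := by
      rw [hKc, hN, show (3360 : ℕ) = 3 ^ 1 * 1120 from rfl,
        Nat.factorization_mul (by norm_num) (by norm_num), Nat.Prime.factorization_pow Nat.prime_three]
      simp [Nat.factorization_eq_zero_of_not_dvd (show ¬ 3 ∣ 1120 by norm_num)]
    let Q : Sylow 3 G := Sylow.ofCard K hK3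
    have hQC : (Q : Subgroup G) ≤ C := Subgroup.map_subtype_le _
    set M := Subgroup.normalizer ((Q : Subgroup G) : Set G) with hM
    -- `N(P)` normalises `Q`
    have hPN : Subgroup.normalizer ((P : Subgroup G) : Set G) ≤ M := by
      intro g hg
      have hconj : ∀ y ∈ (Q : Subgroup G), g * y * g⁻¹ ∈ (Q : Subgroup G) := by
        intro y hy
        have hyC : g * y * g⁻¹ ∈ C := by
          rw [hC, Subgroup.mem_centralizer_iff]
          intro a ha
          have ha' : g⁻¹ * a * g ∈ (P : Subgroup G) :=
            (Subgroup.mem_normalizer_iff''.1 hg a).1 ha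
          have hcomm := Subgroup.mem_centralizer_iff.1 (hQC hy) _ ha'
          calc a * (g * y * g⁻¹) = g * ((g⁻¹ * a * g) * y) * g⁻¹ := by group
            _ = g * (y * (g⁻¹ * a * g)) * g⁻¹ := by rw [hcomm]
            _ = g * y * g⁻¹ * a := by group
        have hp : IsPGroup 3 (Subgroup.zpowers (⟨_, hyC⟩ : C)) := by
          obtain ⟨k, hk⟩ := Q.2 ⟨y, hy⟩
          have hk' : (⟨_, hyC⟩ : C) ^ (3 ^ k) = 1 := Subtype.ext (by
            push_cast
            rw [conj_pow, show y ^ 3 ^ k = 1 from congrArg Subtype.val hk, mul_one, mul_inv_cancel])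
          obtain ⟨j, -, hj⟩ := (Nat.dvd_prime_pow Nat.prime_three).1 (orderOf_dvd_of_pow_eq_one hk')
          exact IsPGroup.of_card (n := j) (by rw [Nat.card_zpowers, hj])
        obtain ⟨T, hT⟩ := hp.exists_le_sylow
        haveI := (Nat.card_eq_one_iff_unique.1 hS1).1
        exact ⟨⟨_, hyC⟩, Subsingleton.elim T S ▸ hT (Subgroup.mem_zpowers _), rfl⟩
      refine Subgroup.mem_normalizer_iff.2 fun y => ⟨hconj y, fun hy => ?_⟩
      have hinj : Function.Injective fun z : ↥(Q : Subgroup G) =>
          (⟨g * z * g⁻¹, hconj z z.2⟩ : ↥(Q : Subgroup G)) := fun a b hab => by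
        simpa using congrArg Subtype.val hab
      obtain ⟨z, hz⟩ := Finite.surjective_of_injective hinj ⟨_, hy⟩
      have : g * (z : G) * g⁻¹ = g * y * g⁻¹ := congrArg Subtype.val hz
      rw [mul_left_inj, mul_right_inj] at this
      exact this ▸ z.2
    have h60 : 60 ∣ Nat.card M := by
      have := Subgroup.card_dvd_of_le hPN
      rwa [hNc, show 4 * 5 * 3 = 60 from rfl] at this
    have hmulQ := card_sylow_mul_card_normalizer Q
    rw [hN, ← hM] at hmulQ
    obtain ⟨i, hi⟩ := h60
    have hn3 := card_sylow_mod (G := G) 3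
    have hni : Nat.card (Sylow 3 G) * i = 56 := by rw [hi] at hmulQ; linarith
    have hne1 := card_sylow_ne_one hG (p := 3) (by rw [hN]; norm_num)
    have hfac := two_mul_card_dvd_factorial_sylow hG (p := 3) (by rw [hN]; norm_num)
    rw [hN] at hfac
    have h28 : Nat.card (Sylow 3 G) = 28 ∧ i = 2 := by
      have hd : Nat.card (Sylow 3 G) ∣ 56 := Dvd.intro i hni
      have hd' := mem_divisors_of_dvd hd (by norm_num)
      rw [show Nat.divisors 56 = {1, 2, 4, 7, 8, 14, 28, 56} by decide] at hd'
      simp only [Finset.mem_insert, Finset.mem_singleton] at hd'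
      rcases hd' with e | e | e | e | e | e | e | e <;> rw [e] at hfac hne1 hn3 hni ⊢
      all_goals first
        | omega
        | exact absurd hfac (by decide +kernel)
    have hPM : (P : Subgroup G) ≤ M := Subgroup.le_normalizer.trans hPN
    have hinf := card_inf_normalizer_mul P hPM
    rw [inf_eq_right.2 hPN, hNc, hi, h28.2] at hinf
    have h5M := card_sylow_mod (G := M) 5
    omega
  · exact false_of_optionKilled hG (by norm_num) P hP hN (by norm_num) (by rw [h]; decide +kernel)
  · -- three hundred and thirty-six
    obtain ⟨r, c, hr, hr1, hNc, hCc⟩ := exists_relIndex hG P hP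
    rw [h, hNc] at hmulP
    have hrc : r * c = 2 := by
      have : 1680 * (r * c) = 1680 * 2 := by rw [show 1680 * 2 = 3360 from rfl, ← hmulP]; ring
      omega
    have hr' := mem_divisors_of_dvd hr (by norm_num)
    rw [show Nat.divisors (5 - 1) = {1, 2, 4} by decide] at hr'
    simp only [Finset.mem_insert, Finset.mem_singleton] at hr'
    obtain ⟨rfl, rfl⟩ : r = 2 ∧ c = 1 := by rcases hr' with rfl | rfl | rfl <;> omega
    haveI := Fintype.ofFinite G
    have hrel : (Subgroup.centralizer ((P : Subgroup G) : Set G)).relIndex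
        (Subgroup.normalizer ((P : Subgroup G) : Set G)) = 2 := by
      have h1 := card_centralizer_mul_relIndex (P : Subgroup G)
      rw [hCc, hNc] at h1
      omega
    obtain ⟨L, d, h1, h2, h3, h4, h5, h6, h7, h8, h9, -, -, h12⟩ :=
      block_degrees hG (by norm_num) P hP hN (by norm_num) hrel le_rfl (by norm_num) hCc
    have hk : killed 3360 5 2 1 (fun _ => false) (fun n => [3, 4, 6, 7].contains n) L.length true 1
        3359 = true := by
      rw [show L.length = 1 by omega]; decide +kernel
    rcases killed_spec L _ _ _ hk h2 d h3 h4 h5 h6 h7 h8 h9 with ⟨x, -, hpx⟩ | hpd | ⟨-, hA, hAd⟩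
    · exact Bool.false_ne_true hpx
    · exact Bool.false_ne_true hpd
    · simp only [beq_iff_eq] at hχ
      rcases h12 rfl χ with e | e | e | ⟨x, hx, e⟩
      · omega
      · omega
      · simp only [List.contains_iff_mem, List.mem_cons, List.not_mem_nil, or_false] at hAd
        omega
      · have := hA x hx
        simp only [List.contains_iff_mem, List.mem_cons, List.not_mem_nil, or_false] at this
        omega

end CfsgLib.Classification.OrderMid
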