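import Cfsg.Agent.Classification.OrderMid.Option
import Cfsg.Agent.Perm69.JordanPrime
import Cfsg.Agent.S0998
import Cfsg.Agent.Small.DegreeInvolution
import Cfsg.Agent.Small.DegreeSmall
import Cfsg.Agent.Derangement.Subgroup

/-!
# No simple groups of order 1344, 1620, 2160

1344 has two primes to the first power, a group of order 1620 would act primitively on ten points
and contain a 3-cycle, and in order 2160 an involution would have a centraliser of order prime to 16.
-/

set_option autoImplicit false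
set_option linter.style.haveILetI false

namespace CfsgLib.Classification.OrderMid

open CfsgLib.Small CfsgLib.Classification.SmallOrders CfsgLib.Classification.OrderRange MulAction

set_option synthInstance.maxSize 1024 in
theorem theta_list : ∀ x : ℕ, x < 47 → 1 < x → x ∣ 2160 → (x % 5 = 1 ∨ x % 5 = 4) →
    x ∈ [4, 6, 9, 16, 24, 36] := by
  decide +kernel

set_option synthInstance.maxSize 1024 in
theorem exceptional_list : ∀ x : ℕ, x < 33 → 1 < x → x ∣ 2160 → (x % 5 = 2 ∨ x % 5 = 3) →
    x ∈ [2, 3, 8, 12, 18, 27] := by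
  decide +kernel

variable {G : Type*} [Group G] [Finite G] [IsSimpleGroup G]

theorem false_of_card_1344 (hG : ¬ IsMulCommutative G) (hN : Nat.card G = 1344) : False := by
  have hcyc : ¬ IsCyclic G := fun hc => hG (by infer_instance)
  rcases Cfsg.Agent.S0998.result hcyc 7 2 3 6 (by norm_num) Nat.prime_two Nat.prime_three
      (by norm_num) (by norm_num) (by norm_num) (by rw [hN]; norm_num) with
    ⟨F, i1, i2, hF, ⟨φ⟩⟩ | ⟨F, i1, i2, hF, ⟨φ⟩⟩
  all_goals
    have := Linear.card_PSL_two_odd (F := F) (by rw [hF]; decide)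
    rw [← Nat.card_congr φ.toEquiv, hN, hF] at this
    norm_num at this

theorem false_of_card_1620 (hG : ¬ IsMulCommutative G) (hN : Nat.card G = 1620) : False := by
  classical
  haveI : Fact (Nat.Prime 3) := ⟨Nat.prime_three⟩
  have hN' : Nat.card G = 3 ^ 4 * 20 := hN
  obtain ⟨P⟩ : Nonempty (Sylow 3 G) := inferInstance
  have hP : Nat.card (P : Subgroup G) = 3 ^ 4 := card_sylow_eq hN' (by norm_num) P
  have hn := card_sylow_mem hG hN' (by norm_num) (by norm_num)
  rw [show (Nat.divisors 20).filter (fun d => d % 3 = 1 ∧ d ≠ 1) = {4, 10} by decide +kernel,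
    Finset.mem_insert, Finset.mem_singleton] at hn
  have hn10 : Nat.card (Sylow 3 G) = 10 := by
    refine hn.resolve_left fun h => ?_
    have := two_mul_card_dvd_factorial_sylow hG (p := 3) (by rw [hN]; norm_num)
    rw [h, hN] at this
    exact absurd this (by decide +kernel)
  set M := Subgroup.normalizer ((P : Subgroup G) : Set G) with hM
  have hMi : M.index = 10 := hn10 ▸ P.card_eq_index_normalizer.symm
  have hMtop : M ≠ ⊤ := fun e => by rw [e, Subgroup.index_top] at hMi; omega
  haveI : Fintype (G ⧸ M) := Fintype.ofFinite _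
  haveI : Nontrivial (G ⧸ M) := Fintype.one_lt_card_iff_nontrivial.1 (by
    rw [← Nat.card_eq_fintype_card, ← Subgroup.index_eq_card, hMi]; norm_num)
  have hmax : ∀ K : Subgroup G, M < K → K = ⊤ := by
    intro K hK
    by_contra hKtop
    have h1 := two_mul_card_dvd_factorial_index hG K hKtop
    have h2 := Subgroup.index_dvd_of_le hK.le
    rw [hMi] at h2
    have h3 : K.index < 10 := hMi ▸ Subgroup.index_strictAnti hK
    have h4 : K.index ≤ 5 := by
      by_contra h9
      interval_cases h : K.index <;> omega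
    rw [hN] at h1
    exact absurd (h1.trans (Nat.factorial_dvd_factorial h4)) (by decide +kernel)
  set o : G ⧸ M := ((1 : G) : G ⧸ M) with ho
  haveI : IsPreprimitive G (G ⧸ M) := by
    rw [← isCoatom_stabilizer_iff_preprimitive G o, show stabilizer G o = M from stabilizer_quotient M]
    exact ⟨hMtop, hmax⟩
  set f := MulAction.toPermHom G (G ⧸ M) with hf
  have hinj : Function.Injective f := toPermHom_coset_injective hMtop
  have hprim : IsPreprimitive f.range (G ⧸ M) :=
    IsPreprimitive.of_surjective (φ := f.rangeRestrict)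
      (f := { toFun := id, map_smul' := fun _ _ => rfl }) Function.surjective_id
  -- the image of `P` is a Sylow subgroup of the symmetric group
  have hperm : Nat.card (Equiv.Perm (G ⧸ M)) = 3 ^ 4 * 44800 := by
    rw [Nat.card_perm, ← Subgroup.index_eq_card, hMi]; decide +kernel
  have himg : Nat.card ((P : Subgroup G).map f) = 3 ^ (Nat.card (Equiv.Perm (G ⧸ M))).factorization 3 := by
    rw [Subgroup.card_map_of_injective hinj, hP, hperm, Nat.factorization_mul (by norm_num) (by norm_num),
      Nat.Prime.factorization_pow Nat.prime_three]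
    simp [Nat.factorization_eq_zero_of_not_dvd (show ¬ 3 ∣ 44800 by norm_num)]
  let Q : Sylow 3 (Equiv.Perm (G ⧸ M)) := Sylow.ofCard ((P : Subgroup G).map f) himg
  -- a 3-cycle
  have hcard10 : Fintype.card (G ⧸ M) = 10 := by
    rw [← Nat.card_eq_fintype_card, ← Subgroup.index_eq_card, hMi]
  obtain ⟨a, b, c, hab, hac, hbc⟩ : ∃ a b c : G ⧸ M, a ≠ b ∧ a ≠ c ∧ b ≠ c := by
    have h2 : 2 < (Finset.univ : Finset (G ⧸ M)).card := by rw [Finset.card_univ, hcard10]; norm_num
    obtain ⟨a, -, b, -, c, -, h⟩ := Finset.two_lt_card.1 h2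
    exact ⟨a, b, c, h⟩
  set σ : Equiv.Perm (G ⧸ M) := Equiv.swap a b * Equiv.swap a c with hσ
  have hσ3 : σ.IsThreeCycle := Equiv.Perm.isThreeCycle_swap_mul_swap_same hab hac hbc
  have hσp : IsPGroup 3 (Subgroup.zpowers σ) :=
    IsPGroup.of_card (n := 1) (by rw [Nat.card_zpowers, hσ3.orderOf, pow_one])
  obtain ⟨R, hR⟩ := hσp.exists_le_sylow
  obtain ⟨g, hg⟩ := MulAction.exists_smul_eq (Equiv.Perm (G ⧸ M)) R Q
  have hmem : g * σ * g⁻¹ ∈ f.range := by
    have h1 : g * σ * g⁻¹ ∈ (Q : Subgroup (Equiv.Perm (G ⧸ M))) := by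
      rw [← hg, Sylow.smul_def, Sylow.pointwise_smul_def, Subgroup.mem_pointwise_smul_iff_inv_smul_mem]
      have : (MulAut.conj g)⁻¹ • (g * σ * g⁻¹) = σ := by
        show (MulAut.conj g).symm (g * σ * g⁻¹) = σ
        simp [MulAut.conj_symm_apply, mul_assoc]
      rw [this]
      exact hR (Subgroup.mem_zpowers σ)
    exact Subgroup.map_le_range f (P : Subgroup G) h1
  have hc : (g * σ * g⁻¹).cycleType = σ.cycleType := Equiv.Perm.cycleType_conj
  have hA := CfsgLib.JordanPrime.alternatingGroup_le_of_prime_cycle hprim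
    Nat.prime_three (by omega) (g := g * σ * g⁻¹) (hσ3.isCycle.conj)
    (by rw [Equiv.Perm.card_support_conj, hσ3.card_support]) hmem
  have h1 := Subgroup.card_le_of_le hA
  rw [← Nat.card_congr (MonoidHom.ofInjective hinj).toEquiv, hN] at h1
  have h2 := two_mul_card_alternatingGroup (α := G ⧸ M)
  rw [Fintype.card_perm, hcard10, ← Nat.card_eq_fintype_card] at h2
  have h3 : 3240 < Nat.factorial 10 := by decide +kernel
  omega

omit [IsSimpleGroup G] in
/-- An involution in the centre of a Sylow 2-subgroup. -/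
theorem exists_invol_two_power_dvd {k m : ℕ} (hN : Nat.card G = 2 ^ k * m) (hm : ¬ 2 ∣ m)
    (hk : k ≠ 0) :
    ∃ t : G, orderOf t = 2 ∧ 2 ^ k ∣ Nat.card (Subgroup.centralizer ({t} : Set G)) := by
  haveI : Fact (Nat.Prime 2) := ⟨Nat.prime_two⟩
  obtain ⟨T⟩ : Nonempty (Sylow 2 G) := inferInstance
  have hT : Nat.card (T : Subgroup G) = 2 ^ k := card_sylow_eq hN hm T
  haveI : Nontrivial ↥(T : Subgroup G) := Finite.one_lt_card_iff_nontrivial.1 (by
    rw [hT]; exact Nat.one_lt_two_pow hk)
  haveI := T.2.center_nontrivial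
  obtain ⟨z, hz⟩ := exists_prime_orderOf_dvd_card' (G := ↥(Subgroup.center ↥(T : Subgroup G))) 2
    (by
      obtain ⟨j, hj⟩ := IsPGroup.iff_card.1 (T.2.to_subgroup (Subgroup.center ↥(T : Subgroup G)))
      have hj0 : j ≠ 0 := fun e => by
        have := Finite.one_lt_card (α := ↥(Subgroup.center ↥(T : Subgroup G)))
        rw [hj, e] at this
        simp at this
      rw [hj]
      exact dvd_pow_self 2 hj0)
  refine ⟨((z : ↥(T : Subgroup G)) : G), by rw [Subgroup.orderOf_coe, Subgroup.orderOf_coe, hz], ?_⟩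
  rw [← hT]
  refine Subgroup.card_dvd_of_le fun x hx => Subgroup.mem_centralizer_singleton_iff.2 ?_
  exact congrArg Subtype.val (Subgroup.mem_center_iff.1 z.2 ⟨x, hx⟩)

theorem false_of_card_2160 (hG : ¬ IsMulCommutative G) (hN : Nat.card G = 2160) : False := by
  classical
  haveI : Fact (Nat.Prime 5) := ⟨by norm_num⟩
  have hN' : Nat.card G = 5 ^ 1 * 432 := hN
  obtain ⟨P⟩ : Nonempty (Sylow 5 G) := inferInstance
  have hP : Nat.card (P : Subgroup G) = 5 := by simpa using card_sylow_eq hN' (by norm_num) P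
  have hn := card_sylow_mem hG hN' one_ne_zero (by norm_num)
  rw [show (Nat.divisors 432).filter (fun d => d % 5 = 1 ∧ d ≠ 1) = {6, 16, 36, 216} by decide +kernel]
    at hn
  simp only [Finset.mem_insert, Finset.mem_singleton] at hn
  have hn216 : Nat.card (Sylow 5 G) = 216 := by
    rcases hn with h | h | h | h
    · have := two_mul_card_dvd_factorial_sylow hG (p := 5) (by rw [hN]; norm_num)
      rw [h, hN] at this
      exact absurd this (by decide +kernel)
    · exact (false_of_optionKilled hG (by norm_num) P hP hN (by norm_num)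
        (by rw [h]; decide +kernel)).elim
    · exact (false_of_optionKilled hG (by norm_num) P hP hN (by norm_num)
        (by rw [h]; decide +kernel)).elim
    · exact h
  have hNc : Nat.card (Subgroup.normalizer ((P : Subgroup G) : Set G)) = 5 * 2 := by
    have := card_sylow_mul_card_normalizer P
    rw [hn216, hN] at this
    omega
  have hC := Degree.centralizer_eq_of_relIndex hG P hP hNc (by decide +kernel)
  obtain ⟨t, ht, ht16⟩ := exists_invol_two_power_dvd (G := G) (k := 4) (m := 135)
    (by rw [hN]; norm_num) (by norm_num) (by norm_num)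
  obtain ⟨l, σ, β, d, y, hσ, hn2, hd, hy, hl, ⟨hd1, hd2, hd3, hd4, hd5, hd6⟩, hsq, hcol, heq⟩ :=
    Degree.exists_involution_equation hG (P : Subgroup G) hP hC 2 2 hNc (by norm_num) le_rfl ht
  have hlen := Degree.length_le_sum_sq fun r hr => (hl r hr).1
  have hl0 : 0 ≤ (l.map fun r => r.1 * r.1).sum := le_trans (Int.natCast_nonneg _) hlen
  push_cast at hn2
  -- one further character, and the exceptional coefficient is `± 1`
  have hβ : β = 0 ∨ β = -σ := by
    have hb : -1 ≤ β ∧ β ≤ 1 := by constructor <;> rcases hσ with rfl | rfl <;> nlinarith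
    rcases (show β = -1 ∨ β = 0 ∨ β = 1 by omega) with rfl | rfl | rfl <;>
      rcases hσ with rfl | rfl <;> first | (left; rfl) | (right; rfl) | (exfalso; omega)
  have hsum : (l.map fun r => r.1 * r.1).sum = 1 := by
    rcases hβ with rfl | rfl <;> rcases hσ with rfl | rfl <;> omega
  obtain ⟨q, hq, hqσ, hq2⟩ : ∃ q : ℤ, (q = 1 ∨ q = -1) ∧ (2 : ℤ) * β + σ = q ∧
      (5 : ℤ) ∣ (β - σ * 2) + 2 * q := by
    rcases hβ with rfl | rfl <;> rcases hσ with rfl | rfl <;>
      exact ⟨_, by norm_num, rfl, by norm_num⟩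
  obtain _ | ⟨a, _ | ⟨b, tl⟩⟩ := l
  · simp at hsum
  swap
  · simp only [List.length_cons] at hlen
    push_cast at hlen
    omega
  obtain ⟨ha0, hθ1, hθN, hθp, hθ2, hv1, hv2⟩ := hl a List.mem_cons_self
  obtain ⟨a, θ, v⟩ := a
  simp only [List.map_cons, List.map_nil, List.sum_cons, List.sum_nil, add_zero] at hsum hd hy hsq hcol heq
  simp only at ha0 hθ1 hθN hθp hθ2 hv1 hv2
  rw [hN] at hθN hd2 hsq
  have ha : a = 1 ∨ a = -1 := Degree.unit_of_sq_one hsum
  push_cast at hd3 hθp hd hy
  have hθb : θ ≤ 46 := by nlinarith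
  have hdb : d ≤ 32 := by nlinarith
  have hθl : θ ∈ [4, 6, 9, 16, 24, 36] := by
    refine theta_list θ (by omega) hθ1 hθN ?_
    rcases ha with rfl | rfl <;> omega
  have hdl : d ∈ [2, 3, 8, 12, 18, 27] := by
    refine exceptional_list d (by omega) hd1 hd2 ?_
    rcases hq with rfl | rfl <;> omega
  rw [hqσ] at hd hy
  have key : a = -1 ∧ q = 1 ∧ ((θ = 4 ∧ d = 3) ∨ (θ = 9 ∧ d = 8)) := by
    simp only [List.mem_cons, List.not_mem_nil, or_false] at hθl hdl
    rcases ha with rfl | rfl <;> rcases hq with rfl | rfl <;> omega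
  obtain ⟨rfl, rfl, hcases⟩ := key
  have hy' : y = v - 1 := by linarith
  set c := Nat.card (Subgroup.centralizer ({t} : Set G)) with hc
  have hq1 : ((2 : ℕ) : ℚ) * (β : ℚ) + (σ : ℚ) = 1 := by exact_mod_cast hqσ
  rw [hq1, hN] at heq
  push_cast at heq
  obtain ⟨i, hi⟩ := ht16
  rcases hcases with ⟨rfl, rfl⟩ | ⟨rfl, rfl⟩
  · rcases (show (v = 0 ∧ y = -1) ∨ (v = 2 ∧ y = 1) by omega) with ⟨rfl, rfl⟩ | ⟨rfl, rfl⟩
    all_goals
      split_ifs at heq
      · norm_num at heq
        have h2 : c ^ 2 ≤ 576 := by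
          have : ((c : ℚ)) ^ 2 ≤ 576 := by linarith
          exact_mod_cast this
        have hc24 : c ≤ 24 := by nlinarith
        have hi1 : i = 1 ∨ i = 0 := by omega
        rcases hi1 with rfl | rfl <;> rw [hi] at heq <;> norm_num at heq
      · norm_num at heq
  · have hvs : v ∈ ([-5, -3, -1, 1, 3, 5, 7] : List ℤ) := by
      simp only [List.mem_cons, List.not_mem_nil, or_false]
      omega
    simp only [List.mem_cons, List.not_mem_nil, or_false] at hvs
    rcases hvs with rfl | rfl | rfl | rfl | rfl | rfl | rfl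
    all_goals
      subst hy'
      split_ifs at heq
      · norm_num at heq
        have h2 : c ^ 2 ≤ 1600 := by
          have : ((c : ℚ)) ^ 2 ≤ 1600 := by linarith
          exact_mod_cast this
        have hc40 : c ≤ 40 := by nlinarith
        have hi1 : i = 0 ∨ i = 1 ∨ i = 2 := by omega
        rcases hi1 with rfl | rfl | rfl <;> rw [hi] at heq <;> norm_num at heq
      · norm_num at heq

end CfsgLib.Classification.OrderMid
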