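import Cfsg.Agent.Classification.OrderMid.Table
import Cfsg.Agent.Classification.OrderMid.Case25
import Cfsg.Agent.Classification.OrderMid.Special
import Cfsg.Agent.Classification.OrderMid.Case3360
import Cfsg.Agent.Classification.OrderMid.Case1512
import Cfsg.Agent.S0496
import Cfsg.Agent.S0983

/-!
# The simple orders below 6000
-/

set_option autoImplicit false

namespace CfsgLib.Classification.OrderMid

open CfsgLib.Classification.OrderRange

variable {G : Type*} [Group G] [Finite G] [IsSimpleGroup G]

/-- A non-abelian simple group of order in `(1092, 3640]` has order 2448, 2520 or 3420. -/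
theorem orders_mid (hG : ¬ IsMulCommutative G) (h1 : 1092 < Nat.card G) (h2 : Nat.card G ≤ 3640) :
    Nat.card G = 2448 ∨ Nat.card G = 2520 ∨ Nat.card G = 3420 := by
  obtain ⟨j, hj⟩ := four_dvd_card hG
  obtain ⟨c, hc⟩ := exists_cert (j := j) (by omega) (by omega)
  rw [← hj] at hc
  by_cases ht : c = Cert.target
  · subst ht
    simpa [check] using hc
  by_cases hh : c = Cert.hand
  · subst hh
    exfalso
    simp only [check, List.contains_iff_mem, List.mem_cons, List.not_mem_nil, or_false] at hc
    rcases hc with h | h | h | h | h | h | h | h | h
    · exact false_of_card_1344 hG h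
    · exact false_of_card_1512 hG h
    · exact false_of_card_1620 hG h
    · exact false_of_card_twenty_five_mul hG (m := 72) (by norm_num) (by rw [h]; norm_num)
    · exact false_of_card_2160 hG h
    · exact false_of_card_twenty_five_mul hG (m := 96) (by norm_num) (by rw [h]; norm_num)
    · exact false_of_card_twenty_five_mul hG (m := 108) (by norm_num) (by rw [h]; norm_num)
    · exact false_of_card_3360 hG h
    · exact false_of_card_twenty_five_mul hG (m := 144) (by norm_num) (by rw [h]; norm_num)
  exfalso
  have hc' : c.check (Nat.card G) = true := by
    cases c <;> first | exact hc | exact absurd rfl ht | exact absurd rfl hh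
  rcases mem_of_check hG hc' with h | h <;>
    simp only [List.mem_cons, List.not_mem_nil, or_false] at h <;> omega

/-- The eleven orders of non-abelian simple groups below 6000. -/
theorem orders_lt_six_thousand (hG : ¬ IsMulCommutative G) (h : Nat.card G < 6000) :
    Nat.card G ∈ [60, 168, 360, 504, 660, 1092, 2448, 2520, 3420, 4080, 5616] := by
  simp only [List.mem_cons, List.not_mem_nil, or_false]
  by_cases h1 : Nat.card G ≤ 1092
  · rcases Cfsg.Agent.S0496.result hG h1 with e | e | e | e | e | e <;> simp [e]
  by_cases h2 : Nat.card G ≤ 3640
  · rcases orders_mid hG (by omega) h2 with e | e | e <;> simp [e]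
  rcases Cfsg.Agent.S0983.result hG (by omega) (by omega) with e | e | e | e
  · simp [e]
  · simp [e]
  all_goals omega

end CfsgLib.Classification.OrderMid
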