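import Cfsg.Agent.Small.DegreeInvolution

/-!
# The involution equation, including a single exceptional character

As `exists_involution_equation`, but allowing normaliser index `p - 1`, and with the characters
behind the listed degrees and values.
-/

set_option autoImplicit false

namespace CfsgLib.Classification.OrderMid

open CfsgLib.Small CfsgLib.Small.Degree CfsgLib.Characters
open scoped ComplexConjugate

universe u

variable {G : Type u} [Group G] [Finite G] {p : ℕ} [Fact p.Prime]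

theorem exists_involution_equation_one_le [IsSimpleGroup G] (hG : ¬ IsMulCommutative G) (P : Subgroup G)
    (hP : Nat.card P = p) (hC : Subgroup.centralizer (P : Set G) = P) (e k : ℕ)
    (he : Nat.card (Subgroup.normalizer (P : Set G)) = p * e) (hk : k * e = p - 1) (hk1 : 1 ≤ k)
    (hp2 : p ≠ 2)
    {t : G} (ht : orderOf t = 2)
    [Decidable (∃ u : G, u ∈ Subgroup.normalizer (P : Set G) ∧ IsConj t u)] :
    ∃ (l : List (ℤ × ℕ × ℤ)) (σ β : ℤ) (d : ℕ) (y : ℤ), (σ = 1 ∨ σ = -1) ∧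
      (l.map fun r => r.1 * r.1).sum + (k : ℤ) * (β * β) + 1 = (e : ℤ) - 2 * σ * β ∧
      1 + (l.map fun r => r.1 * (r.2.1 : ℤ)).sum + ((k : ℤ) * β + σ) * (d : ℤ) = 0 ∧
      1 + (l.map fun r => r.1 * r.2.2).sum + ((k : ℤ) * β + σ) * y = 0 ∧
      (∀ r ∈ l, r.1 ≠ 0 ∧ 1 < r.2.1 ∧ r.2.1 ∣ Nat.card G ∧ (p : ℤ) ∣ (r.2.1 : ℤ) - r.1 ∧
        2 ∣ (r.2.1 : ℤ) - r.2.2 ∧ -(r.2.1 : ℤ) < r.2.2 ∧ r.2.2 < r.2.1 ∧
        ∃ χ : Cfsg.IrrCharacter G, (χ : G → ℂ) 1 = (r.2.1 : ℕ) ∧ (χ : G → ℂ) t = (r.2.2 : ℤ)) ∧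
      (1 < d ∧ d ∣ Nat.card G ∧ (p : ℤ) ∣ (d : ℤ) - (β - σ * (e : ℤ)) ∧ 2 ∣ (d : ℤ) - y ∧
        -(d : ℤ) < y ∧ y < d) ∧
      1 + (l.map fun r => r.2.1 * r.2.1).sum + k * (d * d) ≤ Nat.card G ∧
      1 + (l.map fun r => r.2.2 * r.2.2).sum + (k : ℤ) * (y * y)
        ≤ Nat.card (Subgroup.centralizer ({t} : Set G)) ∧
      (if ∃ u : G, u ∈ Subgroup.normalizer (P : Set G) ∧ IsConj t u then
          (p : ℚ) * (Nat.card (Subgroup.centralizer ({t} : Set G)) : ℚ) ^ 2 else 0)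
        = (Nat.card G : ℚ) * (1 + (l.map fun r => (r.1 : ℚ) * (r.2.2 : ℚ) ^ 2 / r.2.1).sum
            + ((k : ℚ) * β + σ) * (y : ℚ) ^ 2 / d) := by
  classical
  haveI := Fintype.ofFinite G
  have hp := (Fact.out : p.Prime)
  obtain ⟨b, dg, X, χ₀, σ, β, d, hσ, hXc, hχX, hb0, hone, hall, hnorm, hdeg, hvan, hsumP⟩ :=
    exists_data hG P hP hC e k he hk (by omega)
  obtain ⟨ψ, hψ⟩ : X.Nonempty := Finset.card_pos.1 (by omega)
  have hd0 : dg χ₀ = 1 := by
    have h := (hall χ₀).1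
    rw [hone] at h
    exact_mod_cast h.symm
  have hvex : ∀ χ : Cfsg.IrrCharacter G, ∃ v : ℤ, (χ : G → ℂ) t = v ∧
      (χ ≠ χ₀ → 2 ∣ (dg χ : ℤ) - v ∧ -(dg χ : ℤ) < v ∧ v < dg χ) := by
    intro χ
    by_cases hχ : χ = χ₀
    · exact ⟨1, by rw [hχ, hone, Int.cast_one], fun h => absurd hχ h⟩
    · obtain ⟨v, hv, hv'⟩ := exists_involution_value hG χ (hall χ).1 ((hall χ).2.2.1 hχ) ht
      exact ⟨v, hv, fun _ => hv'⟩
  choose v hv hv' using hvex
  have hv0 : v χ₀ = 1 := by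
    have h := hv χ₀
    rw [hone] at h
    exact_mod_cast h.symm
  have htP : ∀ g : G, g * t * g⁻¹ ∉ P := by
    intro g hg
    have h1 : g * t * g⁻¹ ≠ 1 := fun h => by
      rw [conj_eq_one_iff.1 h, orderOf_one] at ht; omega
    have := orderOf_eq_of_mem_prime hP hg h1
    rw [orderOf_conj_eq, ht] at this
    exact hp2 this.symm
  have hrel : ∀ φ ∈ X, ∑ χ, b χ * v χ + σ * v φ = 0 := by
    intro φ hφ
    have h := hvan t htP φ hφ
    simp only [hv] at h
    exact_mod_cast h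
  have hX : ∀ φ ∈ X, b φ = β ∧ dg φ = d ∧ v φ = v ψ := fun φ hφ =>
    ⟨((hall φ).2.2.2.2 hφ).1, ((hall φ).2.2.2.2 hφ).2.1, by
      have h1 := hrel φ hφ
      have h2 := hrel ψ hψ
      rcases hσ with rfl | rfl <;> linarith⟩
  let S := (Finset.univ \ X).filter fun χ => b χ ≠ 0 ∧ χ ≠ χ₀
  have hSne : ∀ χ ∈ S, χ ≠ χ₀ ∧ χ ∉ X ∧ b χ ≠ 0 := fun χ h => by
    obtain ⟨h1, h2, h3⟩ := Finset.mem_filter.1 h
    exact ⟨h3, (Finset.mem_sdiff.1 h1).2, h2⟩
  have hχd : χ₀ ∈ Finset.univ \ X := Finset.mem_sdiff.2 ⟨Finset.mem_univ _, hχX⟩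
  have hS : S ⊆ (Finset.univ \ X).erase χ₀ := fun χ h =>
    Finset.mem_erase.2 ⟨(hSne χ h).1, Finset.mem_sdiff.2 ⟨Finset.mem_univ _, (hSne χ h).2.1⟩⟩
  -- split a sum over the characters weighted by `b`
  have split : ∀ {R : Type} [CommRing R] (F : Cfsg.IrrCharacter G → R) (w : R),
      (∀ φ ∈ X, F φ = w) → (∀ χ, b χ = 0 → F χ = 0) →
      ∑ χ, F χ = F χ₀ + ∑ χ ∈ S, F χ + (k : R) * w := by
    intro R _ F w hF hF0
    rw [← Finset.sum_sdiff (Finset.subset_univ X), ← Finset.add_sum_erase _ _ hχd,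
      Finset.sum_congr rfl hF, Finset.sum_const, hXc, nsmul_eq_mul,
      Finset.sum_subset hS fun χ h hn => hF0 χ (by
        by_contra hne
        obtain ⟨h3, h1⟩ := Finset.mem_erase.1 h
        exact hn (Finset.mem_filter.2 ⟨h1, hne, h3⟩))]
  have lower : ∀ {R : Type} [CommRing R] [LinearOrder R] [IsStrictOrderedRing R]
      (F : Cfsg.IrrCharacter G → R) (w : R), (∀ φ ∈ X, F φ = w) → (∀ χ, 0 ≤ F χ) →
      F χ₀ + ∑ χ ∈ S, F χ + (k : R) * w ≤ ∑ χ, F χ := by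
    intro R _ _ _ F w hF hF0
    rw [← Finset.sum_sdiff (Finset.subset_univ X), ← Finset.add_sum_erase _ _ hχd,
      Finset.sum_congr rfl hF, Finset.sum_const, hXc, nsmul_eq_mul]
    gcongr
    exact fun χ _ _ => hF0 χ
  refine ⟨S.toList.map fun χ => (b χ, dg χ, v χ), σ, β, d, v ψ, hσ, ?_, ?_, ?_, ?_,
    ⟨?_, ?_, ?_, ?_⟩, ?_, ?_, ?_⟩
  · simp only [List.map_map, Function.comp_def, Finset.sum_map_toList]
    have h := split (fun χ => b χ * b χ) (β * β) (fun φ hφ => by simp only [(hX φ hφ).1])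
      fun χ h => by simp only [h, mul_zero]
    rw [hnorm, hb0] at h
    linear_combination -h
  · simp only [List.map_map, Function.comp_def, Finset.sum_map_toList]
    have h := split (fun χ => b χ * (dg χ : ℤ)) (β * (d : ℤ))
      (fun φ hφ => by simp only [(hX φ hφ).1, (hX φ hφ).2.1]) fun χ h => by simp only [h, zero_mul]
    rw [h, hb0, hd0] at hdeg
    push_cast at hdeg
    linear_combination hdeg
  · simp only [List.map_map, Function.comp_def, Finset.sum_map_toList]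
    have h := split (fun χ => b χ * v χ) (β * v ψ)
      (fun φ hφ => by simp only [(hX φ hφ).1, (hX φ hφ).2.2]) fun χ h => by simp only [h, zero_mul]
    have h' := hrel ψ hψ
    rw [h, hb0, hv0] at h'
    linear_combination h'
  · intro r hr
    obtain ⟨χ, hχ, rfl⟩ := List.mem_map.1 hr
    obtain ⟨h1, h2, h3⟩ := hSne χ (Finset.mem_toList.1 hχ)
    exact ⟨h3, (hall χ).2.2.1 h1, (hall χ).2.1, (hall χ).2.2.2.1 h2, (hv' χ h1).1, (hv' χ h1).2.1,
      (hv' χ h1).2.2, χ, (hall χ).1, hv χ⟩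
  · exact (hX ψ hψ).2.1 ▸ (hall ψ).2.2.1 (fun h => hχX (h ▸ hψ))
  · exact (hX ψ hψ).2.1 ▸ (hall ψ).2.1
  · have h := ((hall ψ).2.2.2.2 hψ).2.2
    rwa [(hX ψ hψ).2.1] at h
  · exact (hX ψ hψ).2.1 ▸ hv' ψ (fun h => hχX (h ▸ hψ))
  · simp only [List.map_map, Function.comp_def, Finset.sum_map_toList]
    have hsq : ∑ χ, ((dg χ : ℤ)) ^ 2 = (Nat.card G : ℤ) := by
      have h := sum_degree_sq (G := G)
      simp only [fun χ => (hall χ).1] at h
      exact_mod_cast h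
    have h := lower (fun χ => ((dg χ : ℤ)) ^ 2) ((d : ℤ) ^ 2)
      (fun φ hφ => by simp only [(hX φ hφ).2.1]) fun χ => sq_nonneg _
    rw [hsq, hd0] at h
    simp only [sq, Nat.cast_one, one_mul] at h
    exact_mod_cast (by push_cast; linarith :
      ((1 + ∑ χ ∈ S, dg χ * dg χ + k * (d * d) : ℕ) : ℤ) ≤ (Nat.card G : ℤ))
  · simp only [List.map_map, Function.comp_def, Finset.sum_map_toList]
    have hcol : ∑ χ, v χ * v χ = (Nat.card (Subgroup.centralizer ({t} : Set G)) : ℤ) := by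
      have h := sum_irr_mul_conj_of_isConj (IsConj.refl t)
      simp only [hv, map_intCast] at h
      exact_mod_cast h
    have h := lower (fun χ => v χ * v χ) (v ψ * v ψ)
      (fun φ hφ => by simp only [(hX φ hφ).2.2]) fun χ => mul_self_nonneg _
    rw [hcol, hv0] at h
    linarith
  · simp only [List.map_map, Function.comp_def, Finset.sum_map_toList]
    have key := ClassPairs.card_pairs t t (Finset.univ.filter fun g => g ∈ P ∧ g ≠ 1)
    rw [card_pairs_eq hP hC hp2 ht _ (fun g => by simp)] at key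
    simp only [hsumP, hv, fun χ => (hall χ).1] at key
    have hk' : ((p : ℤ) - 1) = (k : ℤ) * (e : ℤ) := by
      have : 1 ≤ p := hp.one_le
      rw [show ((p : ℤ) - 1) = ((p - 1 : ℕ) : ℤ) by omega, ← hk]
      push_cast; ring
    have hk'' : ((p : ℂ) - 1) = (k : ℂ) * (e : ℂ) := by exact_mod_cast hk'
    set F : Cfsg.IrrCharacter G → ℂ := fun χ =>
      (b χ : ℂ) * ((v χ : ℂ) * (v χ : ℂ) / (dg χ : ℂ)) with hF
    have hterm : ∀ χ : Cfsg.IrrCharacter G,
        (((((p : ℤ) - 1) * b χ + if χ ∈ X then σ * (e : ℤ) else 0) : ℤ) : ℂ)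
          * ((v χ : ℂ) * (v χ : ℂ) / (dg χ : ℂ))
        = ((p : ℂ) - 1) * F χ
          + if χ ∈ X then (σ : ℂ) * (e : ℂ) * ((v ψ : ℂ) * (v ψ : ℂ) / (d : ℂ)) else 0 := by
      intro χ
      by_cases hχ : χ ∈ X
      · simp only [hF, if_pos hχ, (hX χ hχ).2.1, (hX χ hχ).2.2]
        push_cast; ring
      · simp only [hF, if_neg hχ]
        push_cast; ring
    rw [Finset.sum_congr rfl fun χ _ => hterm χ, Finset.sum_add_distrib, ← Finset.mul_sum,
      Finset.sum_ite_mem, Finset.univ_inter, Finset.sum_const, hXc, nsmul_eq_mul] at key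
    rw [split F ((β : ℂ) * ((v ψ : ℂ) * (v ψ : ℂ) / (d : ℂ)))
      (fun φ hφ => by simp only [hF, (hX φ hφ).1, (hX φ hφ).2.1, (hX φ hφ).2.2])
      (fun χ h => by simp only [hF, h, Int.cast_zero, zero_mul])] at key
    have hp1 : (p : ℂ) - 1 ≠ 0 := by
      rw [sub_ne_zero]
      exact_mod_cast hp.one_lt.ne'
    have hF0 : F χ₀ = 1 := by simp [hF, hb0, hv0, hd0]
    have key' : (if ∃ u : G, u ∈ Subgroup.normalizer (P : Set G) ∧ IsConj t u then
          (p : ℂ) * (Nat.card (Subgroup.centralizer ({t} : Set G)) : ℂ) ^ 2 else 0)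
        = (Nat.card G : ℂ) * (1 + ∑ χ ∈ S, (b χ : ℂ) * (v χ : ℂ) ^ 2 / (dg χ : ℂ)
            + ((k : ℂ) * β + σ) * (v ψ : ℂ) ^ 2 / (d : ℂ)) := by
      refine mul_left_cancel₀ hp1 ?_
      have hsum : ∑ χ ∈ S, F χ = ∑ χ ∈ S, (b χ : ℂ) * (v χ : ℂ) ^ 2 / (dg χ : ℂ) :=
        Finset.sum_congr rfl fun χ _ => by simp only [hF]; ring
      rw [hF0, hsum] at key
      split_ifs at key ⊢ <;> rw [hk''] at key ⊢ <;> linear_combination key
    split_ifs with h <;> simp only [h, if_true, if_false] at key'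
    · exact_mod_cast key'
    · exact_mod_cast key'

end CfsgLib.Classification.OrderMid
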