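import Cfsg.Agent.Classification.OrderRange.Cert

/-!
# Certificates for the multiples of four from `1096` to `3640`
-/

set_option autoImplicit false

namespace CfsgLib.Classification.OrderMid

open CfsgLib.Classification.OrderRange

/-- The certificate check, with the simple orders and special orders of this range. -/
def check (N : ℕ) : Cert → Bool
  | .target => [2448, 2520, 3420].contains N
  | .hand => [1344, 1512, 1620, 1800, 2160, 2400, 2700, 3360, 3600].contains N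
  | c => c.check N

/-- Check consecutive multiples of four from `4 * i` on. -/
def checkFrom : ℕ → List Cert → Bool
  | _, [] => true
  | i, c :: cs => check (4 * i) c && checkFrom (i + 1) cs

theorem exists_cert_of_checkFrom {j : ℕ} : ∀ {i : ℕ} {L : List Cert},
    checkFrom i L = true → i ≤ j → j < i + L.length → ∃ c : Cert, check (4 * j) c = true
  | i, [], _, h1, h2 => by simp only [List.length_nil, add_zero] at h2; omega
  | i, c :: cs, h, h1, h2 => by
    rw [checkFrom, Bool.and_eq_true] at h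
    rcases eq_or_lt_of_le h1 with rfl | h1
    · exact ⟨c, h.1⟩
    · exact exists_cert_of_checkFrom h.2 h1 (by simp only [List.length_cons] at h2; omega)

/-- Certificates from `4 * 274` on. -/
def table0 : List Cert :=
  [.pq 2 137 3 1, .auto, .big 23, .pq 2 277 2 1, .pq 2 139 3 1, .big 31, .syl 7 1, .pq 2 281 2 1,
   .big 47, .pq 2 283 2 1, .pq 2 71 4 1, .big 19, .big 13, .auto, .pq 2 3 7 2, .pq 2 17 2 2,
   .big 29, .big 97, .pq 2 73 4 1, .pq 2 293 2 1, .syl 7 2, .auto, .pq 2 37 5 1, .big 11,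
   .pq 2 149 3 1, .auto, .syl 5 2, .auto, .pq 2 151 3 1, .big 101, .pq 2 19 6 1, .auto, .big 17,
   .pq 2 307 2 1, .big 11, .big 103, .big 31, .pq 2 311 2 1, .big 13, .pq 2 313 2 1,
   .pq 2 157 3 1, .syl 7 1, .pq 2 79 4 1, .pq 2 317 2 1, .big 53, .auto, .pq 2 5 8 1, .big 107,
   .big 23, .auto, .pq 2 3 4 4, .auto, .pq 2 163 3 1, .big 109, .pq 2 41 5 1, .auto, .big 11,
   .pq 2 331 2 1, .pq 2 83 4 1, .big 37, .pq 2 167 3 1, .auto, .hand, .pq 2 337 2 1,
   .pq 2 13 3 2, .big 113, .big 17, .auto, .big 19, .pq 2 7 2 3, .pq 2 43 5 1, .big 23,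
   .pq 2 173 3 1, .pq 2 347 2 1, .big 29, .pq 2 349 2 1, .syl 5 2, .big 13, .pq 2 11 7 1,
   .pq 2 353 2 1]

theorem table0_check : checkFrom 274 table0 = true := by decide +kernel

/-- Certificates from `4 * 354` on. -/
def table1 : List Cert :=
  [.big 59, .auto, .pq 2 89 4 1, .big 17, .pq 2 179 3 1, .pq 2 359 2 1, .block 5, .pq 2 19 2 2,
   .pq 2 181 3 1, .syl 11 2, .big 13, .auto, .big 61, .pq 2 367 2 1, .pq 2 23 6 1, .big 41,
   .big 37, .auto, .big 31, .pq 2 373 2 1, .big 17, .syl 5 3, .pq 2 47 5 1, .auto, .hand,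
   .pq 2 379 2 1, .big 19, .big 127, .pq 2 191 3 1, .pq 2 383 2 1, .pq 2 3 9 1, .auto,
   .pq 2 193 3 1, .big 43, .pq 2 97 4 1, .pq 2 389 2 1, .big 13, .auto, .pq 2 7 5 2, .big 131,
   .pq 2 197 3 1, .auto, .syl 11 1, .pq 2 397 2 1, .pq 2 199 3 1, .big 19, .pq 2 5 6 2,
   .pq 2 401 2 1, .big 67, .auto, .pq 2 101 4 1, .hand, .big 29, .auto, .big 17, .pq 2 409 2 1,
   .big 41, .big 137, .pq 2 103 4 1, .auto, .big 23, .auto, .pq 2 13 7 1, .big 139, .big 19,
   .pq 2 419 2 1, .pair 3 7 [5, 6, 15, 16], .pq 2 421 2 1, .pq 2 211 3 1, .big 47, .pq 2 53 5 1,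
   .auto, .big 71, .auto, .pq 2 107 4 1, .block 3, .big 43, .pq 2 431 2 1, .pq 2 3 6 3,
   .pq 2 433 2 1]

theorem table1_check : checkFrom 354 table1 = true := by decide +kernel

/-- Certificates from `4 * 434` on. -/
def table2 : List Cert :=
  [.big 31, .big 29, .pq 2 109 4 1, .auto, .big 73, .pq 2 439 2 1, .syl 11 1, .syl 7 2, .big 17,
   .pq 2 443 2 1, .big 37, .auto, .pq 2 223 3 1, .big 149, .pq 2 7 8 1, .pq 2 449 2 1, .hand,
   .auto, .pq 2 113 4 1, .big 151, .pq 2 227 3 1, .auto, .big 19, .pq 2 457 2 1, .pq 2 229 3 1,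
   .big 17, .big 23, .pq 2 461 2 1, .syl 11 1, .pq 2 463 2 1, .pq 2 29 6 1, .big 31,
   .pq 2 233 3 1, .pq 2 467 2 1, .big 13, .auto, .big 47, .big 157, .pq 2 59 5 1, .auto, .big 79,
   .auto, .big 17, .big 53, .pq 2 239 3 1, .pq 2 479 2 1, .syl 2 7, .auto, .pq 2 241 3 1,
   .big 23, .pq 2 11 4 2, .auto, .pq 2 3 3 5, .pq 2 487 2 1, .pq 2 61 5 1, .big 163, .syl 7 2,
   .pq 2 491 2 1, .big 41, .auto, .big 19, .block 11, .pq 2 31 6 1, .auto, .big 83,
   .pq 2 499 2 1, .pq 2 5 4 3, .big 167, .pq 2 251 3 1, .pq 2 503 2 1, .block 7, .auto, .big 23,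
   .big 13, .pq 2 127 4 1, .pq 2 509 2 1, .big 17, .auto, .pq 2 3 11 0, .big 19]

theorem table2_check : checkFrom 434 table2 = true := by decide +kernel

/-- Certificates from `4 * 514` on. -/
def table3 : List Cert :=
  [.pq 2 257 3 1, .auto, .big 43, .auto, .big 37, .big 173, .big 13, .pq 2 521 2 1, .big 29,
   .pq 2 523 2 1, .pq 2 131 4 1, .block 3, .pq 2 263 3 1, .auto, .syl 11 1, .pq 2 23 2 2,
   .big 53, .big 59, .big 19, .auto, .big 89, .auto, .pq 2 67 5 1, .big 179, .pq 2 269 3 1,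
   .auto, .hand, .pq 2 541 2 1, .pq 2 271 3 1, .big 181, .pq 2 17 7 1, .auto, .big 13,
   .pq 2 547 2 1, .pq 2 137 4 1, .big 61, .syl 5 2, .auto, .big 23, .auto, .pq 2 277 3 1,
   .big 37, .pq 2 139 4 1, .pq 2 557 2 1, .big 31, .auto, .syl 7 1, .big 17, .pq 2 281 3 1,
   .pq 2 563 2 1, .big 47, .auto, .pq 2 283 3 1, .block 7, .pq 2 71 5 1, .pq 2 569 2 1, .big 19,
   .pq 2 571 2 1, .syl 13 1, .big 191, .big 41, .auto, .pq 2 3 8 2, .pq 2 577 2 1, .pq 2 17 3 2,
   .big 193, .big 29, .auto, .big 97, .auto, .pq 2 73 5 1, .syl 13 1, .pq 2 293 3 1,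
   .pq 2 587 2 1, .syl 7 2, .auto, .big 59, .big 197, .pq 2 37 6 1, .pq 2 593 2 1]

theorem table3_check : checkFrom 514 table3 = true := by decide +kernel

/-- Certificates from `4 * 594` on. -/
def table4 : List Cert :=
  [.syl 11 1, .auto, .pq 2 149 4 1, .big 199, .big 23, .pq 2 599 2 1, .hand, .pq 2 601 2 1,
   .big 43, .big 67, .pq 2 151 4 1, .auto, .big 101, .pq 2 607 2 1, .pq 2 19 7 1, .big 29,
   .big 61, .auto, .target, .pq 2 613 2 1, .pq 2 307 3 1, .big 41, .block 11, .pq 2 617 2 1,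
   .big 103, .pq 2 619 2 1, .big 31, .big 23, .pq 2 311 3 1, .auto, .syl 13 1, .pq 2 5 2 4,
   .pq 2 313 3 1, .big 19, .pq 2 157 4 1, .auto, .target, .pq 2 631 2 1, .pq 2 79 5 1, .big 211,
   .pq 2 317 3 1, .auto, .big 53, .auto, .big 29, .big 71, .pq 2 5 9 1, .pq 2 641 2 1, .big 107,
   .pq 2 643 2 1, .big 23, .big 43, .big 19, .pq 2 647 2 1, .pq 2 3 5 4, .auto, .syl 13 1,
   .big 31, .pq 2 163 4 1, .pq 2 653 2 1, .big 109, .auto, .pq 2 41 6 1, .big 73, .big 47,
   .pq 2 659 2 1, .syl 11 1, .pq 2 661 2 1, .pq 2 331 3 1, .big 17, .pq 2 83 5 1, .auto, .big 37,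
   .auto, .pq 2 167 4 1, .big 223, .big 67, .auto, .block 7, .pq 2 673 2 1]

theorem table4_check : checkFrom 594 table4 = true := by decide +kernel

/-- Certificates from `4 * 674` on. -/
def table5 : List Cert :=
  [.pq 2 337 3 1, .hand, .pq 2 13 4 2, .pq 2 677 2 1, .big 113, .auto, .big 17, .big 227,
   .big 31, .pq 2 683 2 1, .big 19, .auto, .pq 2 7 3 3, .big 229, .pq 2 43 6 1, .auto, .big 23,
   .pq 2 691 2 1, .pq 2 173 4 1, .syl 11 1, .pq 2 347 3 1, .auto, .big 29, .auto, .pq 2 349 3 1,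
   .big 233, .syl 5 2, .pq 2 701 2 1, .syl 13 1, .auto, .pq 2 11 8 1, .big 47, .pq 2 353 3 1,
   .auto, .big 59, .pq 2 709 2 1, .big 71, .big 79, .pq 2 89 5 1, .auto, .big 17, .auto,
   .pq 2 179 4 1, .big 239, .pq 2 359 3 1, .pq 2 719 2 1, .block 5, .auto, .pq 2 19 3 2,
   .big 241, .pq 2 181 4 1, .auto, .syl 11 2, .pq 2 727 2 1, .syl 13 1, .pq 2 3 2 6, .big 73,
   .auto, .big 61, .pq 2 733 2 1, .pq 2 367 3 1, .syl 7 2, .pq 2 23 7 1, .auto, .big 41,
   .pq 2 739 2 1, .big 37, .big 19, .big 53, .pq 2 743 2 1, .big 31, .auto, .pq 2 373 3 1,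
   .big 83, .big 17, .auto, .syl 5 3, .pq 2 751 2 1, .pq 2 47 6 1, .big 251]

theorem table5_check : checkFrom 674 table5 = true := by decide +kernel

/-- Certificates from `4 * 754` on. -/
def table6 : List Cert :=
  [.big 29, .auto, .block 7, .pq 2 757 2 1, .pq 2 379 3 1, .big 23, .big 19, .pq 2 761 2 1,
   .big 127, .auto, .pq 2 191 4 1, .big 17, .pq 2 383 3 1, .auto, .pq 2 3 10 1, .pq 2 769 2 1,
   .syl 7 1, .big 257, .pq 2 193 4 1, .pq 2 773 2 1, .big 43, .auto, .pq 2 97 5 1, .big 37,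
   .pq 2 389 3 1, .auto, .block 13, .auto, .big 23, .big 29, .pq 2 7 6 2, .auto, .big 131,
   .pq 2 787 2 1, .pq 2 197 4 1, .big 263, .big 79, .auto, .block 11, .auto, .pq 2 397 3 1,
   .big 53, .pq 2 199 4 1, .pq 2 797 2 1, .big 19, .auto, .pq 2 5 7 2, .big 89, .pq 2 401 3 1,
   .auto, .big 67, .auto, .big 31, .big 269, .pq 2 101 5 1, .pq 2 809 2 1, .block 5,
   .pq 2 811 2 1, .big 29, .big 271, .big 37, .auto, .big 17, .auto, .pq 2 409 3 1, .syl 13 1,
   .big 41, .pq 2 821 2 1, .big 137, .pq 2 823 2 1, .pq 2 103 5 1, .syl 11 1, .big 59,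
   .pq 2 827 2 1, .big 23, .pq 2 829 2 1, .big 83, .big 277, .pq 2 13 8 1, .auto]

theorem table6_check : checkFrom 754 table6 = true := by decide +kernel

/-- Certificates from `4 * 834` on. -/
def table7 : List Cert :=
  [.big 139, .auto, .big 19, .big 31, .pq 2 419 3 1, .pq 2 839 2 1, .hand, .pq 2 29 2 2,
   .pq 2 421 3 1, .big 281, .pq 2 211 4 1, .auto, .big 47, .auto, .pq 2 53 6 1, .big 283,
   .big 17, .auto, .big 71, .pq 2 853 2 1, .big 61, .target, .pq 2 107 5 1, .pq 2 857 2 1,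
   .block 13, .pq 2 859 2 1, .big 43, .big 41, .pq 2 431 3 1, .pq 2 863 2 1, .pq 2 3 7 3, .auto,
   .pq 2 433 3 1, .big 17, .big 31, .auto, .big 29, .auto, .pq 2 109 5 1, .big 97, .big 23,
   .auto, .big 73, .pq 2 877 2 1, .pq 2 439 3 1, .big 293, .syl 11 1, .pq 2 881 2 1, .syl 7 2,
   .pq 2 883 2 1, .big 17, .big 59, .pq 2 443 3 1, .pq 2 887 2 1, .big 37, .auto, .big 89,
   .syl 11 1, .pq 2 223 4 1, .auto, .big 149, .auto, .pq 2 7 9 1, .big 23, .pq 2 449 3 1, .auto,
   .hand, .auto, .big 41, .big 43, .pq 2 113 5 1, .auto, .big 151, .pq 2 907 2 1, .pq 2 227 4 1,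
   .big 101, .syl 13 1]

theorem table7_check : checkFrom 834 table7 = true := by decide +kernel

theorem exists_cert {j : ℕ} (h1 : 274 ≤ j) (h2 : j ≤ 910) : ∃ c : Cert, check (4 * j) c = true := by
  by_cases h : j < 354
  · exact exists_cert_of_checkFrom table0_check (by omega) (by simp [table0]; omega)
  by_cases h : j < 434
  · exact exists_cert_of_checkFrom table1_check (by omega) (by simp [table1]; omega)
  by_cases h : j < 514
  · exact exists_cert_of_checkFrom table2_check (by omega) (by simp [table2]; omega)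
  by_cases h : j < 594
  · exact exists_cert_of_checkFrom table3_check (by omega) (by simp [table3]; omega)
  by_cases h : j < 674
  · exact exists_cert_of_checkFrom table4_check (by omega) (by simp [table4]; omega)
  by_cases h : j < 754
  · exact exists_cert_of_checkFrom table5_check (by omega) (by simp [table5]; omega)
  by_cases h : j < 834
  · exact exists_cert_of_checkFrom table6_check (by omega) (by simp [table6]; omega)
  by_cases h : j < 911
  · exact exists_cert_of_checkFrom table7_check (by omega) (by simp [table7]; omega)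
  omega

end CfsgLib.Classification.OrderMid
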